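import Cfsg.Agent.Lib.PushUp.Four
import Cfsg.Agent.Lib.Fitting.Basic
import Cfsg.Agent.Lib.Hall.Basic

/-!
Pushing up in solvable `S₄`-free groups.
-/

set_option autoImplicit false
set_option linter.style.haveILetI false

namespace CfsgLib.PushUp

open Cfsg.Agent.S4022 (cj cj_mul card_cj cj_mono)
open Cfsg.Agent.S4270 (cj_cancel mem_normalizer_of_cj cj_of_mem_normalizer cj_self)

variable {G : Type*} [Group G]

/-- Elementary abelian `2`-subgroups of `S` of largest order. -/
structure MaxEl (S A : Subgroup G) : Prop where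
  le : A ≤ S
  sq : ∀ a ∈ A, a * a = 1
  max : ∀ B ≤ S, (∀ b ∈ B, b * b = 1) → Nat.card B ≤ Nat.card A

theorem comm_of_sq {A : Subgroup G} (h : ∀ a ∈ A, a * a = 1) :
    A ≤ Subgroup.centralizer (A : Set G) := fun a ha => Subgroup.mem_centralizer_iff.mpr fun b hb => by
  have hi : ∀ {c : G}, c ∈ A → c⁻¹ = c := fun hc => inv_eq_of_mul_eq_one_right (h _ hc)
  rw [← hi (mul_mem hb ha), mul_inv_rev, hi ha, hi hb]

/-- The elements of order at most two of an abelian subgroup. -/
def sqSub (H : Subgroup G) (hH : H ≤ Subgroup.centralizer (H : Set G)) : Subgroup G where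
  carrier := {x | x ∈ H ∧ x * x = 1}
  one_mem' := ⟨one_mem _, one_mul 1⟩
  mul_mem' {a b} ha hb := ⟨mul_mem ha.1 hb.1, by
    calc a * b * (a * b) = a * (b * a) * b := by group
      _ = (a * a) * (b * b) := by rw [Subgroup.mem_centralizer_iff.mp (hH ha.1) b hb.1]; group
      _ = 1 := by rw [ha.2, hb.2, one_mul]⟩
  inv_mem' {a} ha := ⟨inv_mem ha.1, by rw [← mul_inv_rev, ha.2, inv_one]⟩

theorem sq_one_sup {A B : Subgroup G} (hA : ∀ a ∈ A, a * a = 1) (hB : ∀ b ∈ B, b * b = 1)
    (hc : A ≤ Subgroup.centralizer (B : Set G)) : ∀ x ∈ A ⊔ B, x * x = 1 := by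
  have hcc : A ⊔ B ≤ Subgroup.centralizer ((A ⊔ B : Subgroup G) : Set G) := by
    rw [centralizer_sup]
    exact sup_le (le_inf (comm_of_sq hA) hc) (le_inf (Subgroup.le_centralizer_iff.mp hc) (comm_of_sq hB))
  have h : A ⊔ B ≤ sqSub (A ⊔ B) hcc := sup_le (fun a ha => ⟨Subgroup.mem_sup_left ha, hA a ha⟩)
    (fun b hb => ⟨Subgroup.mem_sup_right hb, hB b hb⟩)
  exact fun x hx => (h hx).2

theorem sq_one_iSup {ι : Type*} {U : ι → Subgroup G} (he : ∀ i, ∀ u ∈ U i, u * u = 1)
    (hc : ∀ i j, U i ≤ Subgroup.centralizer (U j : Set G)) : ∀ x ∈ ⨆ i, U i, x * x = 1 := by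
  have hcc : ⨆ i, U i ≤ Subgroup.centralizer ((⨆ i, U i : Subgroup G) : Set G) :=
    iSup_le fun i => Subgroup.le_centralizer_iff.mp (iSup_le fun j => hc j i)
  have h : ⨆ i, U i ≤ sqSub _ hcc := iSup_le fun i u hu => ⟨le_iSup U i hu, he i u hu⟩
  exact fun x hx => (h hx).2

theorem EImg.comap {H : Type*} [Group H] {f : G →* H} (hf : Function.Injective f)
    {B V : Subgroup G} (h : EImg B V) : EImg (B.map f) (V.map f) := by
  refine ⟨h.isPGroup.map f, (Subgroup.map_mono h.le_normalizer).trans (Subgroup.le_normalizer_map f), ?_⟩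
  rintro _ ⟨b, hb, rfl⟩
  rw [← map_mul, ← Subgroup.mem_comap, centralizer_map f hf]
  exact h.sq_mem b hb

theorem Sq.of_map {H : Type*} [Group H] {f : G →* H} (hf : Function.Injective f)
    {B V : Subgroup G} (h : Sq (B.map f) (V.map f)) : Sq B V := by
  rwa [Sq, cd_map f hf, cd_map f hf] at h

theorem sq_cj {U : Subgroup G} {S : Subgroup G}
    (hSU : S ≤ Subgroup.normalizer (U : Set G)) (hSq : ∀ B ≤ S, EImg B U → Sq B U) (g : G)
    {B : Subgroup G} (hB : B ≤ cj g S) (hBp : IsPGroup 2 B)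
    (hsq : ∀ b ∈ B, b * b ∈ Subgroup.centralizer (cj g U : Set G)) : Sq B (cj g U) := by
  have e : cj g (cj g⁻¹ B) = B := by
    rw [← cj_mul, mul_inv_cancel, Cfsg.Agent.S4270.cj_one]
  have hle : cj g⁻¹ B ≤ S := (cj_mono g⁻¹ hB).trans (cj_cancel g S).le
  have hE : EImg (cj g⁻¹ B) U := ⟨hBp.map _, hle.trans hSU, fun b hb => by
    have h := hsq _ (e.le ⟨b, hb, rfl⟩)
    rw [← map_mul, ← Subgroup.mem_comap, cj, centralizer_map _ (MulAut.conj g).injective] at h
    exact h⟩
  have h := hSq _ hle hE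
  rw [Sq, ← e, cd_cj, cd_cj]
  exact h

variable [Finite G]

theorem exists_maxEl (S : Subgroup G) : ∃ A, MaxEl S A := by
  obtain ⟨A, hA⟩ := (Set.toFinite {A : Subgroup G | A ≤ S ∧ ∀ a ∈ A, a * a = 1}).exists_maximalFor
    (fun A : Subgroup G => Nat.card A) _ ⟨⊥, bot_le, fun a ha => by
      rw [Subgroup.mem_bot.mp ha, one_mul]⟩
  exact ⟨A, hA.prop.1, hA.prop.2, fun B h1 h2 => le_of_not_gt fun h =>
    absurd (hA.le_of_le ⟨h1, h2⟩ h.le) (not_le.mpr h)⟩

/-- A maximal elementary abelian subgroup is an offender. -/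
theorem MaxEl.offender {S A Y : Subgroup G} (hA : MaxEl S A) (hY : Y ≤ S)
    (hYe : ∀ y ∈ Y, y * y = 1) : cd Y A ≤ cd A Y := by
  set CA := Subgroup.centralizer (Y : Set G) ⊓ A with hCA
  set CY := Subgroup.centralizer (A : Set G) ⊓ Y with hCY
  have hcomm : CA ≤ Subgroup.centralizer (Y : Set G) := inf_le_left
  have hE := hA.max (CA ⊔ Y) (sup_le (inf_le_right.trans hA.le) hY)
    (sq_one_sup (fun a ha => hA.sq a ha.2) hYe hcomm)
  have h1 := Coprime.card_sup_mul_card_inf (K := Y) (S := CA)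
    (hcomm.trans (Subgroup.centralizer_le_normalizer _))
  rw [sup_comm] at h1
  have h2 : Nat.card ↥(Y ⊓ CA) ≤ Nat.card CY := Subgroup.card_le_of_le fun y hy =>
    Subgroup.mem_inf.mpr ⟨comm_of_sq hA.sq hy.2.2, hy.1⟩
  have h3 : cd A Y * Nat.card CA = Nat.card A := Coprime.relIndex_mul_card_inf _ A
  have h4 : cd Y A * Nat.card CY = Nat.card Y := Coprime.relIndex_mul_card_inf _ Y
  have h5 : Nat.card Y * Nat.card CA ≤ Nat.card A * Nat.card CY :=
    h1 ▸ Nat.mul_le_mul hE h2
  rw [← h3, ← h4] at h5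
  have h6 : 0 < Nat.card CY * Nat.card CA := Nat.mul_pos Nat.card_pos Nat.card_pos
  refine Nat.le_of_mul_le_mul_right ?_ h6
  calc cd Y A * (Nat.card CY * Nat.card CA) = cd Y A * Nat.card CY * Nat.card CA := by ring
    _ ≤ cd A Y * Nat.card CA * Nat.card CY := h5
    _ = _ := by ring

theorem sylow_conj_le {M P : Subgroup G} (S : Sylow 2 G) (hS : (S : Subgroup G) ≤ M) (hP : P ≤ M)
    (hPp : IsPGroup 2 P) : ∃ h ∈ M, P ≤ cj h (S : Subgroup G) := by
  haveI : Fact (Nat.Prime 2) := ⟨Nat.prime_two⟩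
  obtain ⟨R, hR⟩ := (hPp.comap_of_injective M.subtype M.subtype_injective).exists_le_sylow
  obtain ⟨h, hh⟩ := MulAction.exists_smul_eq M (S.subtype hS) R
  refine ⟨h, h.2, fun x hx => ?_⟩
  have hxR : (⟨x, hP hx⟩ : M) ∈ (R : Subgroup M) := hR hx
  rw [← hh] at hxR
  have h2 := Coprime.map_subtype_conj_smul_sylow h (S.subtype hS)
  rw [Sylow.coe_subtype, Subgroup.map_subgroupOf_eq_of_le hS, Cfsg.Agent.S4022.cj_smul] at h2
  exact h2 ▸ ⟨_, hxR, rfl⟩

theorem le_sylow_of_normal {N : Subgroup G} [N.Normal] (hN : IsPGroup 2 N) (S : Sylow 2 G) :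
    N ≤ (S : Subgroup G) := by
  haveI : Fact (Nat.Prime 2) := ⟨Nat.prime_two⟩
  exact fun n hn => Fitting.mem_pCore_iff_forall_sylow.mp (Fitting.le_pCore inferInstance hN hn) S

theorem not_two_dvd_relIndex (S : Sylow 2 G) (N : Subgroup G) [N.Normal] :
    ¬ 2 ∣ (S : Subgroup G).relIndex N := fun h => by
  haveI : Fact (Nat.Prime 2) := ⟨Nat.prime_two⟩
  exact S.not_dvd_index (h.trans (Fitting.relIndex_dvd_index_of_normal_right _ N))

theorem exists_conj_eq {N P P' : Subgroup G} (hP : IsPGroup 2 P) (hPN : P ≤ N)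
    (hP'N : P' ≤ N) (hidx : ¬ 2 ∣ P.relIndex N) (hcard : Nat.card P' = Nat.card P) :
    ∃ n ∈ N, cj n P' = P := by
  haveI : Fact (Nat.Prime 2) := ⟨Nat.prime_two⟩
  let R : Sylow 2 N := (hP.comap_of_injective N.subtype N.subtype_injective).toSylow hidx
  have hc1 : ∀ {X : Subgroup G}, X ≤ N → Nat.card (X.subgroupOf N) = Nat.card X := fun hX =>
    Nat.card_congr (Subgroup.subgroupOfEquivOfLe hX).toEquiv
  obtain ⟨k, hk⟩ := IsPGroup.iff_card.mp hP
  have hP' : IsPGroup 2 P' := IsPGroup.of_card (hcard.trans hk)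
  obtain ⟨R', hR'⟩ := (hP'.comap_of_injective N.subtype N.subtype_injective).exists_le_sylow
  have e : P'.subgroupOf N = (R' : Subgroup N) := Subgroup.eq_of_le_of_card_ge hR' (le_of_eq (by
    rw [Sylow.card_eq_multiplicity R', ← Sylow.card_eq_multiplicity R]
    show Nat.card (P.subgroupOf N) = Nat.card (P'.subgroupOf N)
    rw [hc1 hPN, hc1 hP'N, hcard]))
  obtain ⟨n, hn⟩ := MulAction.exists_smul_eq N R' R
  refine ⟨n, n.2, ?_⟩
  have h := Coprime.map_subtype_conj_smul_sylow n R'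
  rw [hn, ← e, Cfsg.Agent.S4022.cj_smul, Subgroup.map_subgroupOf_eq_of_le hP'N] at h
  rw [← h]
  exact Subgroup.map_subgroupOf_eq_of_le hPN

/-- **Pushing up.** In a solvable `S₄`-free group, a normal elementary abelian subgroup `U` of a
Sylow `2`-subgroup `S` with the squares inequality and commuting conjugates is normal, provided it
is normalized by all proper overgroups of `S` and by the normalizers of all subgroups of `S` that
contain the elementary abelian subgroups of largest order. -/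
theorem normal_of_minimal [Group.IsSolvable G] (hS4 : ¬ Cfsg.Involves (Equiv.Perm (Fin 4)) G)
    (S : Sylow 2 G) {U : Subgroup G} (hUS : U ≤ (S : Subgroup G))
    (hSU : (S : Subgroup G) ≤ Subgroup.normalizer (U : Set G))
    (he : ∀ u ∈ U, u * u = 1) (hconj : ∀ g : G, cj g U ≤ Subgroup.centralizer (U : Set G))
    (hSq : ∀ B ≤ (S : Subgroup G), EImg B U → Sq B U)
    (hmin : ∀ K : Subgroup G, (S : Subgroup G) ≤ K → K ≠ ⊤ → K ≤ Subgroup.normalizer (U : Set G))
    (hNJ : ∀ g : G, ∀ P ≤ (S : Subgroup G), (∀ A, MaxEl (S : Subgroup G) A → A ≤ P) →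
      g ∈ Subgroup.normalizer (P : Set G) → g ∈ Subgroup.normalizer (U : Set G)) :
    U.Normal := by
  classical
  haveI : Fact (Nat.Prime 2) := ⟨Nat.prime_two⟩
  rw [← Subgroup.normalizer_eq_top_iff]
  by_contra hM
  set M := Subgroup.normalizer (U : Set G) with hMdef
  set N := M.normalCore with hN
  haveI : N.Normal := Subgroup.normalCore_normal M
  have hNM : N ≤ M := Subgroup.normalCore_le M
  -- the normal closure
  set Y := ⨆ g : G, cj g U with hY
  have hcc : ∀ g h : G, cj g U ≤ Subgroup.centralizer (cj h U : Set G) := by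
    intro g h
    have h1 := cj_mono h (hconj (h⁻¹ * g))
    rw [← cj_mul, mul_inv_cancel_left] at h1
    intro x hx
    obtain ⟨y, hy, rfl⟩ := h1 hx
    rw [← Subgroup.mem_comap, cj, centralizer_map _ (MulAut.conj h).injective]
    exact hy
  have hYe : ∀ y ∈ Y, y * y = 1 := sq_one_iSup (fun g => by
    rintro _ ⟨v, hv, rfl⟩; rw [← map_mul, he v hv, map_one]) hcc
  have hYc : Y ≤ Subgroup.centralizer (Y : Set G) := comm_of_sq hYe
  have hYp : IsPGroup 2 Y := fun y => ⟨1, Subtype.ext (by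
    rw [pow_one, SubmonoidClass.coe_pow, pow_two, hYe y y.2]; rfl)⟩
  haveI hYn : Y.Normal := Subgroup.normalizer_eq_top_iff.mp (eq_top_iff.mpr fun g _ =>
    mem_normalizer_of_cj (Subgroup.eq_of_le_of_card_ge (by
      rw [hY, cj, Subgroup.map_iSup]
      exact iSup_le fun h => (cj_mul g h U).ge.trans (le_iSup (fun g => cj g U) (g * h)))
      (card_cj _ _).ge))
  have hgY : ∀ g : G, cj g U ≤ Y := fun g => le_iSup (fun g => cj g U) g
  have hUY : U ≤ Y := (Cfsg.Agent.S4270.cj_one U).ge.trans (hgY 1)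
  have hYS : Y ≤ (S : Subgroup G) := le_sylow_of_normal hYp S
  have hsqfam : ∀ {g : G} {E : Subgroup G}, E ≤ cj g (S : Subgroup G) → IsPGroup 2 E →
      (∀ b ∈ E, b * b = 1) → Sq E (cj g U) := fun {g E} h1 h2 h3 =>
    sq_cj hSU hSq g h1 h2 fun b hb => by rw [h3 b hb]; exact one_mem _
  have hsqN : ∀ B ≤ N, (∀ b ∈ B, b * b = 1) → IsPGroup 2 B → Sq B Y := by
    intro B hBN hBe hBp
    refine Sq.sSup _ ?_
    rintro B' hB' _ ⟨g, rfl⟩
    have h1 : cj g⁻¹ B' ≤ N :=
      (cj_mono _ (hB'.trans hBN)).trans (Cfsg.Agent.S4022.cj_normal _ N).le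
    obtain ⟨h, hhM, hh⟩ := sylow_conj_le S hSU (h1.trans hNM) ((hBp.to_le hB').map _)
    have h2 : B' ≤ cj (g * h) (S : Subgroup G) := by
      have := cj_mono g hh
      rwa [← cj_mul, mul_inv_cancel, Cfsg.Agent.S4270.cj_one, ← cj_mul] at this
    have e : cj (g * h) U = cj g U := by rw [cj_mul, cj_of_mem_normalizer hhM]
    show Sq B' (cj g U)
    rw [← e]
    exact hsqfam h2 (hBp.to_le hB') fun b hb => hBe b (hB' hb)
  -- some maximal elementary abelian subgroup of `S` is not in the core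
  obtain ⟨A, hA, hAN⟩ : ∃ A, MaxEl (S : Subgroup G) A ∧ ¬ A ≤ N := by
    by_contra! hcon
    apply hM
    set P := (S : Subgroup G) ⊓ N with hP
    let R : Sylow 2 N := (((S.2.to_le inf_le_left : IsPGroup 2 P)).comap_of_injective N.subtype
      N.subtype_injective).toSylow (by
        show ¬ 2 ∣ P.relIndex N
        rw [hP, Subgroup.inf_relIndex_right]
        exact not_two_dvd_relIndex S N)
    have hF := Sylow.normalizer_sup_eq_top R
    rw [eq_top_iff, ← hF]
    refine sup_le (fun g hg => hNJ g P inf_le_left (fun A hA => le_inf hA.le (hcon A hA)) ?_) hNM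
    rwa [show (R : Subgroup N).map N.subtype = P from
      Subgroup.map_subgroupOf_eq_of_le inf_le_right] at hg
  -- no offenders
  suffices hstrict : ∀ n, ∀ B ≤ (S : Subgroup G), Nat.card B = n → (∀ b ∈ B, b * b = 1) →
      ¬ B ≤ Subgroup.centralizer (Y : Set G) → cd B Y < cd Y B by
    have hAY : ¬ A ≤ Subgroup.centralizer (Y : Set G) := fun h => hAN (h.trans
      (Subgroup.normal_le_normalCore.mpr ((centralizer_mono hUY).trans
        (Subgroup.centralizer_le_normalizer _))))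
    exact (hstrict _ A hA.le rfl hA.sq hAY).not_ge (hA.offender hYS hYe)
  intro n
  induction n using Nat.strong_induction_on with
  | _ n ih =>
  intro B hBS hn hBe hBY
  have hBp : IsPGroup 2 B := S.2.to_le hBS
  have hb2 : 2 ≤ cd B Y := two_le_cd hBY
  by_cases hBN : B ≤ N
  · have h : cd B Y ^ 2 ≤ cd Y B := hsqN B hBN hBe hBp
    nlinarith
  -- the product argument
  have hprod : ∀ V' ≤ Y, B ≤ Subgroup.normalizer (V' : Set G) →
      ¬ B ≤ Subgroup.centralizer (V' : Set G) →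
      cd B V' ≤ cd V' B → (¬ Subgroup.centralizer (V' : Set G) ⊓ B ≤ Subgroup.centralizer (Y : Set G)) →
      cd B Y < cd Y B := by
    intro V' hV' hn' hne hle hB1
    set B₁ := Subgroup.centralizer (V' : Set G) ⊓ B with hB₁
    have hlt : B₁ < B := lt_of_le_of_ne inf_le_right fun e => hne (e ▸ inf_le_left)
    have hih := ih _ (hn ▸ (Set.Finite.card_lt_card (Set.toFinite _) (SetLike.coe_ssubset_coe.mpr hlt)))
      B₁ (hlt.le.trans hBS) rfl (fun b hb => hBe b (hlt.le hb)) hB1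
    have h1 := cd_prod (V := Y) (B := B) (B₁ := B₁) inf_le_right hV'
      (Subgroup.le_centralizer_iff.mp inf_le_left)
    have h2 := cd_kernel (V := Y) (B := B) hV'
    rw [← hB₁] at h2
    have h3 := cd_pos V' B
    calc cd B Y = cd B₁ Y * cd B V' := h2.symm
      _ ≤ cd B₁ Y * cd V' B := Nat.mul_le_mul_left _ hle
      _ < cd Y B₁ * cd V' B := Nat.mul_lt_mul_of_pos_right hih h3
      _ ≤ cd Y B := by rw [mul_comm]; exact h1
  -- the quotient by the core
  set π := QuotientGroup.mk' N with hπ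
  have hπs : Function.Surjective π := QuotientGroup.mk'_surjective N
  have hπ1 : ∀ {g : G}, π g = 1 ↔ g ∈ N := fun {g} => QuotientGroup.eq_one_iff g
  have hSM : (S : Subgroup G) ≤ M := hSU
  haveI : Group.IsSolvable (G ⧸ N) := solvable_of_surjective hπs
  have hred : Cfsg.pCore 2 (G ⧸ N) = ⊥ := pCore_quotient_eq_bot fun T hT hNT hTp => by
    haveI := hT
    refine Subgroup.normal_le_normalCore.mpr ?_
    haveI : (T.map π).Normal := hT.map π hπs
    have h := le_sylow_of_normal hTp (S.mapSurjective hπs)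
    rw [Sylow.coe_mapSurjective] at h
    intro t ht
    obtain ⟨s, hs, hst⟩ := h ⟨t, ht, rfl⟩
    have : s⁻¹ * t ∈ N := hπ1.mp (by rw [map_mul, map_inv, hst, inv_mul_cancel])
    simpa using mul_mem (hSM hs) (hNM this)
  haveI : Nontrivial (G ⧸ N) := QuotientGroup.nontrivial_iff.mpr fun h => hM (top_le_iff.mp (h ▸ hNM))
  obtain ⟨p, hp, R, hRn, hR1, hRp, hRc⟩ := CfsgLib.Hall.exists_normal_pgroup_ne_bot (G := G ⧸ N)
  haveI := Fact.mk hp
  haveI := hRn
  have hRodd : Odd (Nat.card R) := by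
    obtain ⟨j, hj⟩ := IsPGroup.iff_card.mp hRp
    rcases hp.eq_two_or_odd' with rfl | hodd
    · exact absurd (le_bot_iff.mp ((Fitting.le_pCore hRn hRp).trans hred.le)) hR1
    · exact hj ▸ hodd.pow
  have hRab : R ≤ Subgroup.centralizer (R : Set (G ⧸ N)) :=
    Subgroup.le_centralizer_iff_isMulCommutative.mpr hRc
  have hRtop : R ⊔ (S : Subgroup G).map π = ⊤ := by
    by_contra hne
    refine hR1 (le_bot_iff.mp ?_)
    have hle : (R ⊔ (S : Subgroup G).map π).comap π ≤ M := hmin _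
      (fun s hs => Subgroup.mem_sup_right ⟨s, hs, rfl⟩) (fun e => hne (by
        rw [← Subgroup.map_comap_eq_self_of_surjective hπs (R ⊔ _), e,
          Subgroup.map_top_of_surjective π hπs]))
    have h2 : R.comap π ≤ N :=
      Subgroup.normal_le_normalCore.mpr ((Subgroup.comap_mono le_sup_left).trans hle)
    intro r hr
    obtain ⟨g, rfl⟩ := hπs r
    exact Subgroup.mem_bot.mpr (hπ1.mpr (h2 hr))
  have hnormal : ∀ X : Subgroup (G ⧸ N), R ≤ Subgroup.normalizer (X : Set _) →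
      (S : Subgroup G).map π ≤ Subgroup.normalizer (X : Set _) → X.Normal := fun X h1 h2 =>
    Subgroup.normalizer_eq_top_iff.mp (top_le_iff.mp (hRtop ▸ sup_le h1 h2))
  have hRM : ∀ r ∈ R, r ∈ M.map π → r = 1 := by
    intro r hr hr'
    have hn : (R ⊓ M.map π).Normal := hnormal _
      (fun a ha => Subgroup.centralizer_le_normalizer _ (centralizer_mono inf_le_left (hRab ha)))
      (fun a ha => mem_normalizer_of_cj (by
        rw [cj, Subgroup.map_inf _ _ _ (MulAut.conj a).injective]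
        exact congrArg₂ _ (Cfsg.Agent.S4022.cj_normal a R) (cj_self (Subgroup.map_mono hSM ha))))
    have h2 : (R ⊓ M.map π).comap π ≤ N := Subgroup.normal_le_normalCore.mpr
      ((Subgroup.comap_mono inf_le_right).trans (by
        rw [Subgroup.comap_map_eq, hπ, QuotientGroup.ker_mk']; exact sup_le le_rfl hNM))
    obtain ⟨g, rfl⟩ := hπs r
    exact hπ1.mpr (h2 ⟨hr, hr'⟩)
  obtain ⟨Bb, hBb, hidx, xb, ⟨x, hxB, rfl⟩, hx2, db, hdR, hd1, hinv, hcd⟩ :=
    exists_inverted (B := B.map π) (by rintro _ ⟨b, hb, rfl⟩; rw [← map_mul, hBe b hb, map_one])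
      Subgroup.le_normalizer_of_normal hRodd (fun hc => hBN (by
        have hn : ((S : Subgroup G).map π ⊓ Subgroup.centralizer (R : Set (G ⧸ N))).Normal :=
          hnormal _
            (fun r hr => Subgroup.centralizer_le_normalizer _ (centralizer_mono inf_le_right
              (Subgroup.le_centralizer_iff.mp le_rfl hr)))
            (le_trans (le_of_eq rfl) (Coprime.le_normalizer_inf_of_le Subgroup.le_normalizer
              Subgroup.le_normalizer_of_normal))
        have h1 := (Fitting.le_pCore hn ((S.2.map π).to_le inf_le_left)).trans hred.le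
        have h2 : B.map π ≤ ⊥ :=
          (le_inf (Subgroup.map_mono hBS) (Subgroup.le_centralizer_iff.mp hc)).trans h1
        rw [le_bot_iff, Subgroup.map_eq_bot_iff, QuotientGroup.ker_mk'] at h2
        exact h2))
  have hdodd : Odd (orderOf db) := hRodd.of_dvd_nat (R.orderOf_dvd_natCard hdR)
  set B₂ := Bb.comap π ⊓ B with hB₂
  have hB₂B : B₂ ≤ B := inf_le_right
  have hidx2 : B₂.relIndex B = 2 := by
    rw [hB₂, Subgroup.inf_relIndex_right, Subgroup.relIndex_comap, hidx]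
  have hB₂map : B₂.map π = Bb := le_antisymm (by rintro _ ⟨b, hb, rfl⟩; exact hb.1)
    fun b hb => by
      obtain ⟨g, hg, rfl⟩ := hBb hb
      exact ⟨g, ⟨hb, hg⟩, rfl⟩
  have hcomB : ∀ {a b : G}, a ∈ B → b ∈ B → a * b = b * a := fun ha hb =>
    Subgroup.mem_centralizer_iff.mp (comm_of_sq hBe hb) _ ha
  set P₂ := ((S : Subgroup G) ⊓ N) ⊔ B₂ with hP₂
  have hP₂S : P₂ ≤ (S : Subgroup G) := sup_le inf_le_left (hB₂B.trans hBS)
  have hP₂p : IsPGroup 2 P₂ := S.2.to_le hP₂S
  set N₂ := Bb.comap π with hN₂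
  have hNN₂ : N ≤ N₂ := fun g hg => by
    show π g ∈ Bb
    rw [hπ1.mpr hg]; exact one_mem _
  have hP₂N₂ : P₂ ≤ N₂ := sup_le (inf_le_right.trans hNN₂) inf_le_left
  have hxP₂ : x ∈ Subgroup.normalizer (P₂ : Set G) := mem_normalizer_of_cj (by
    rw [hP₂, Cfsg.Agent.S4022.cj_sup, cj, Subgroup.map_inf _ _ _ (MulAut.conj x).injective]
    refine congrArg₂ _ (congrArg₂ _ (cj_self (hBS hxB)) (Cfsg.Agent.S4022.cj_normal x N)) ?_
    exact cj_of_mem_normalizer (Subgroup.centralizer_le_normalizer _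
      (mem_centralizer_iff_conj.mpr fun b hb => by
        rw [hcomB hxB (hB₂B hb), mul_inv_cancel_right])))
  have hidxP₂ : ¬ 2 ∣ P₂.relIndex N₂ := by
    have h1 : N₂ = P₂ ⊔ N := le_antisymm (by
        rw [hN₂, ← hB₂map, Subgroup.comap_map_eq, hπ, QuotientGroup.ker_mk']
        exact sup_le (le_sup_right.trans le_sup_left) le_sup_right) (sup_le hP₂N₂ hNN₂)
    have h2 : P₂.relIndex (P₂ ⊔ N) = P₂.relIndex N := by
      have h3 := Coprime.card_sup_mul_card_inf (K := N) (S := P₂) Subgroup.le_normalizer_of_normal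
      have h4 := Subgroup.relIndex_mul_relIndex ⊥ P₂ (P₂ ⊔ N) bot_le le_sup_left
      rw [Subgroup.relIndex_bot_left, Subgroup.relIndex_bot_left] at h4
      have h5 := Coprime.relIndex_mul_card_inf P₂ N
      rw [sup_comm N P₂, inf_comm N P₂, ← h4, ← h5] at h3
      have h6 : 0 < Nat.card P₂ * Nat.card ↥(P₂ ⊓ N) := Nat.mul_pos Nat.card_pos Nat.card_pos
      refine Nat.eq_of_mul_eq_mul_left h6 ?_
      linarith
    rw [h1, h2]
    have h7 : P₂.relIndex N ∣ (S : Subgroup G).relIndex N := by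
      rw [← Subgroup.inf_relIndex_right (H := (S : Subgroup G))]
      exact Subgroup.relIndex_dvd_of_le_left N le_sup_left
    exact fun h => not_two_dvd_relIndex S N (h.trans h7)
  obtain ⟨d0, hd0⟩ := hπs db
  obtain ⟨e, heN₂, he2⟩ := exists_conj_eq hP₂p hP₂N₂ (P' := cj d0 P₂) (by
      rintro _ ⟨g, hg, rfl⟩
      show π (d0 * g * d0⁻¹) ∈ Bb
      have hg' : π g ∈ Bb := hP₂N₂ hg
      rw [map_mul, map_mul, map_inv, hd0, ← hcd _ hg', mul_inv_cancel_right]
      exact hg') hidxP₂ (card_cj _ _)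
  set d1 := e * d0 with hd1'
  have hd1P : d1 ∈ Subgroup.normalizer (P₂ : Set G) := mem_normalizer_of_cj (by rw [cj_mul, he2])
  set x' := d1 * x * d1⁻¹ with hx'
  have hxx : x * x = 1 := hBe x hxB
  have hx'x' : x' * x' = 1 := by
    rw [hx', show d1 * x * d1⁻¹ * (d1 * x * d1⁻¹) = d1 * (x * x) * d1⁻¹ by group, hxx]; group
  have hπx' : π x' = db * π x * db⁻¹ := by
    have h1 : Commute (π e) db := hcd _ heN₂
    obtain ⟨b, hb, hbe⟩ := hB₂map.ge (heN₂ : π e ∈ Bb)
    have h2 : Commute (π e) (π x) := by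
      rw [← hbe]
      show π b * π x = π x * π b
      rw [← map_mul, ← map_mul, hcomB (hB₂B hb) hxB]
    calc π x' = π e * (db * π x * db⁻¹) * (π e)⁻¹ := by
          rw [hx', hd1', map_mul, map_mul, map_inv, map_mul, hd0]; group
      _ = _ := by rw [((h1.mul_right h2).mul_right h1.inv_right).eq, mul_inv_cancel_right]
  obtain ⟨k, hk⟩ := exists_odd_pow (x * x')
  set c := (x * x') ^ 2 ^ k with hc
  have hxc : x * c * x⁻¹ = c⁻¹ := by
    have hxi : x⁻¹ = x := inv_eq_of_mul_eq_one_right hxx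
    rw [hc, ← conj_pow, ← inv_pow]
    congr 1
    rw [mul_inv_rev, hxi, inv_eq_of_mul_eq_one_right hx'x']
    calc x * (x * x') * x = (x * x) * x' * x := by group
      _ = x' * x := by rw [hxx, one_mul]
  have hcP : c ∈ Subgroup.normalizer (P₂ : Set G) :=
    pow_mem (mul_mem hxP₂ (mul_mem (mul_mem hd1P hxP₂) (inv_mem hd1P))) _
  have hπc : π c = ((db ^ 2) ^ 2 ^ k)⁻¹ := by
    have hxi : (π x)⁻¹ = π x := inv_eq_of_mul_eq_one_right (by rw [← map_mul, hxx, map_one])
    rw [hc, map_pow, ← inv_pow]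
    congr 1
    rw [map_mul, hπx']
    calc π x * (db * π x * db⁻¹) = π x * db * (π x)⁻¹ * db⁻¹ := by rw [hxi]; group
      _ = (db ^ 2)⁻¹ := by rw [hinv]; group
  have hcM : c ∉ M := fun h => hd1 (by
    have h1 : π c = 1 := hRM _ (hπc ▸ inv_mem (pow_mem (pow_mem hdR _) _)) ⟨c, h, rfl⟩
    rw [hπc, inv_eq_one, ← pow_mul] at h1
    exact orderOf_eq_one_iff.mp (Nat.eq_one_of_dvd_coprimes
      (((Nat.coprime_two_left.mpr hdodd)).mul ((Nat.coprime_two_left.mpr hdodd).pow_left k)).symm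
      dvd_rfl (orderOf_dvd_of_pow_eq_one h1)))
  -- the subgroup `V'`
  set V' := sSup ((fun g => cj g U) '' (Subgroup.normalizer (P₂ : Set G) : Set G)) with hV'
  have hV'Y : V' ≤ Y := sSup_le (by rintro _ ⟨g, -, rfl⟩; exact hgY g)
  have hinv' : ∀ g ∈ Subgroup.normalizer (P₂ : Set G), g ∈ Subgroup.normalizer (V' : Set G) := by
    intro g hg
    refine mem_normalizer_of_cj (Subgroup.eq_of_le_of_card_ge ?_ (card_cj _ _).ge)
    rw [cj, Subgroup.map_le_iff_le_comap]
    refine sSup_le ?_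
    rintro _ ⟨h, hh, rfl⟩
    rw [← Subgroup.map_le_iff_le_comap]
    exact (cj_mul g h U).ge.trans (le_sSup ⟨g * h, mul_mem hg hh, rfl⟩)
  have hUV' : U ≤ V' := le_sSup ⟨1, one_mem _, Cfsg.Agent.S4270.cj_one U⟩
  have hBP : B ≤ Subgroup.normalizer (P₂ : Set G) := fun b hb => mem_normalizer_of_cj (by
    rw [hP₂, Cfsg.Agent.S4022.cj_sup, cj, Subgroup.map_inf _ _ _ (MulAut.conj b).injective]
    refine congrArg₂ _ (congrArg₂ _ (cj_self (hBS hb)) (Cfsg.Agent.S4022.cj_normal b N)) ?_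
    exact cj_of_mem_normalizer (Subgroup.centralizer_le_normalizer _
      (mem_centralizer_iff_conj.mpr fun a ha => by
        rw [hcomB hb (hB₂B ha), mul_inv_cancel_right])))
  have hBV' : B ≤ Subgroup.normalizer (V' : Set G) := fun b hb => hinv' b (hBP hb)
  have hsqP : ∀ E ≤ P₂, (∀ b ∈ E, b * b = 1) → Sq E V' := fun E hE hEe => by
    refine Sq.sSup _ ?_
    rintro E' hE' _ ⟨g, hg, rfl⟩
    exact hsqfam ((hE'.trans hE).trans ((cj_of_mem_normalizer hg).ge.trans (cj_mono g hP₂S)))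
      (hP₂p.to_le (hE'.trans hE)) fun b hb => hEe b (hE' hb)
  have hne : ¬ B ≤ Subgroup.centralizer (V' : Set G) := fun h => hcM
    (Subgroup.centralizer_le_normalizer _ (centralizer_mono hUV' (by
      have hx1 : x ∈ Subgroup.centralizer (V' : Set G) := h hxB
      have hx'1 : x' ∈ Subgroup.centralizer (V' : Set G) := mem_centralizer_iff_conj.mpr fun v hv => by
        have hv' : d1⁻¹ * v * d1 ∈ V' := (Subgroup.mem_normalizer_iff''.mp (hinv' d1 hd1P) v).mp hv
        calc x' * v * x'⁻¹ = d1 * (x * (d1⁻¹ * v * d1) * x⁻¹) * d1⁻¹ := by rw [hx']; group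
          _ = v := by rw [mem_centralizer_iff_conj.mp hx1 _ hv']; group
      exact pow_mem (mul_mem hx1 hx'1) _)))
  have hb' : 2 ≤ cd B V' := two_le_cd hne
  have ha2 : cd B₂ V' ^ 2 ≤ cd V' B₂ := hsqP B₂ le_sup_right fun b hb => hBe b (hB₂B hb)
  have ha2' : cd V' B₂ ≤ cd V' B := cd_mono_left hB₂B
  have hbb : cd B V' ≤ 2 * cd B₂ V' := relIndex_two hidx2
  have ha' : 2 ≤ cd V' B := two_le_cd fun h => hne (Subgroup.le_centralizer_iff.mp h)
  have hle : cd B V' ≤ cd V' B := by
    rcases Nat.lt_or_ge (cd B V') 4 with h4 | h4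
    · obtain ⟨j, hj⟩ := exists_cd_eq hBp V'
      rw [hj] at h4 ⊢
      rcases j with _ | _ | j
      · simp; omega
      · simpa using ha'
      · exact absurd h4 (not_lt.mpr (Nat.pow_le_pow_right two_pos (show 2 ≤ j + 2 by omega)))
    · nlinarith
  by_cases hB1 : Subgroup.centralizer (V' : Set G) ⊓ B ≤ Subgroup.centralizer (Y : Set G)
  swap
  · exact hprod V' hV'Y hBV' hne hle hB1
  -- `B` is faithful on `V'` modulo the kernel on `Y`
  have hbeq : cd B Y = cd B V' := by
    rw [← cd_kernel (V := Y) (B := B) hV'Y, cd_eq_one_iff.mpr hB1, one_mul]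
  have haa : cd V' B ≤ cd Y B := cd_mono_right hV'Y
  by_contra hcon
  push Not at hcon
  have hbound : cd B V' ≤ 4 := by nlinarith
  have hBU : B ≤ Subgroup.centralizer (U : Set G) := by
    by_contra hBU
    have hsU : cd B U ^ 2 ≤ cd U B := hSq B hBS ⟨hBp, hBS.trans hSU, fun b hb => by
      rw [hBe b hb]; exact one_mem _⟩
    have h2 : 2 ≤ cd B U := two_le_cd hBU
    by_cases hB1' : Subgroup.centralizer (U : Set G) ⊓ B ≤ Subgroup.centralizer (Y : Set G)
    · have h3 : cd B Y = cd B U := by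
        rw [← cd_kernel (V := Y) (B := B) hUY, cd_eq_one_iff.mpr hB1', one_mul]
      have h4 : cd U B ≤ cd Y B := cd_mono_right hUY
      nlinarith
    · have := hprod U hUY (hBS.trans hSU) hBU (by nlinarith) hB1'
      omega
  have hVS : V' ≤ (S : Subgroup G) := hV'Y.trans hYS
  have hV'p : IsPGroup 2 V' := hYp.to_le hV'Y
  have hV'c : V' ≤ Subgroup.centralizer (V' : Set G) :=
    hV'Y.trans (hYc.trans (centralizer_mono hV'Y))
  have hV'e : ∀ w ∈ V', w * w = 1 := fun w hw => hYe w (hV'Y hw)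
  have hcV : c ∈ Subgroup.normalizer (V' : Set G) := hinv' c hcP
  have hxV : x ∈ Subgroup.normalizer (V' : Set G) := hBV' hxB
  have hcU : c ∉ Subgroup.centralizer (U : Set G) :=
    fun h => hcM (Subgroup.centralizer_le_normalizer _ h)
  have htrans : ¬ cd V' (Subgroup.zpowers x) ≤ 2 := by
    intro h2
    apply hcU
    refine centralizer_mono hUV' ?_
    set D := V' ⊓ (Subgroup.centralizer (Subgroup.zpowers x : Set G) ⊓
      Subgroup.centralizer (Subgroup.zpowers x' : Set G)) with hD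
    have hidxD : D.relIndex V' ≤ 4 := by
      have e1 : cd V' (Subgroup.zpowers x') = cd V' (Subgroup.zpowers x) := by
        have : cj d1 (Subgroup.zpowers x) = Subgroup.zpowers x' := MonoidHom.map_zpowers _ x
        conv_lhs => rw [← cj_of_mem_normalizer (hinv' d1 hd1P), ← this, cd_cj]
      rw [hD, Subgroup.inf_relIndex_left]
      exact Subgroup.relIndex_inf_le.trans (Nat.mul_le_mul h2 (e1.le.trans h2))
    have hxD : x ∈ Subgroup.centralizer (D : Set G) := mem_centralizer_iff_conj.mpr fun v hv =>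
      mem_centralizer_zpowers.mp hv.2.1
    have hx'D : x' ∈ Subgroup.centralizer (D : Set G) := mem_centralizer_iff_conj.mpr fun v hv =>
      mem_centralizer_zpowers.mp hv.2.2
    exact pair hS4 inf_le_left hV'p
      (hV'c.trans ((centralizer_mono inf_le_left).trans (Subgroup.centralizer_le_normalizer _)))
      hidxD hxV hcV hxD (pow_mem (mul_mem hxD hx'D) _) (fun v _ => by rw [hxc]; group) hk
      (by rw [pow_orderOf_eq_one]; exact one_mem _)
  have hx4 : 4 ≤ cd V' (Subgroup.zpowers x) := four_le_cd hV'p htrans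
  have hxB' : cd V' (Subgroup.zpowers x) ≤ cd V' B := cd_mono_left (Subgroup.zpowers_le.mpr hxB)
  have hB4 : cd V' B = 4 := by omega
  have hb4 : cd B V' = 4 := by omega
  have hfix1 : Subgroup.centralizer (Subgroup.zpowers x : Set G) ⊓ V' ≤
      Subgroup.centralizer (B : Set G) := inf_le_of_relIndex_eq
    (centralizer_mono (Subgroup.zpowers_le.mpr hxB)) (by
      show cd V' B = cd V' (Subgroup.zpowers x)
      omega)
  obtain ⟨v, hvB, hvV⟩ : ∃ v ∈ B₂, v ∉ Subgroup.centralizer (V' : Set G) := by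
    by_contra! h
    rw [cd_eq_one_iff.mpr h] at hbb
    omega
  have hv4 : 4 ≤ cd V' (Subgroup.zpowers v) := by
    have h1 : 2 ≤ cd (Subgroup.zpowers v) V' :=
      two_le_cd fun h => hvV (h (Subgroup.mem_zpowers v))
    have h2 : cd (Subgroup.zpowers v) V' ^ 2 ≤ cd V' (Subgroup.zpowers v) :=
      hsqP _ ((Subgroup.zpowers_le.mpr hvB).trans le_sup_right) fun b hb =>
        hBe b (hB₂B ((Subgroup.zpowers_le.mpr hvB) hb))
    nlinarith
  have hfix2 : Subgroup.centralizer (Subgroup.zpowers v : Set G) ⊓ V' ≤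
      Subgroup.centralizer (B : Set G) := inf_le_of_relIndex_eq
    (centralizer_mono (Subgroup.zpowers_le.mpr (hB₂B hvB))) (by
      show cd V' B = cd V' (Subgroup.zpowers v)
      have := cd_mono_left (V := V') (Subgroup.zpowers_le.mpr (hB₂B hvB))
      omega)
  refine four_case hS4 hV'p hV'c hV'e hUV' hP₂p (hP₂S.trans hSU) (fun E hE hEI => hSq E (hE.trans hP₂S) hEI)
    hxx (hBe v (hB₂B hvB)) (hcomB hxB (hB₂B hvB)) (Subgroup.mem_sup_right hvB) hcP hxV hcV hk hxc
    (hBU hxB) hcU (fun w hw => ⟨fun h => ?_, fun h => ?_⟩) (by omega)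
  · exact conj_fix_iff.mpr (Subgroup.mem_centralizer_iff.mp
      (hfix1 ⟨mem_centralizer_zpowers.mpr h, hw⟩) v (hB₂B hvB)).symm
  · exact conj_fix_iff.mpr (Subgroup.mem_centralizer_iff.mp
      (hfix2 ⟨mem_centralizer_zpowers.mpr h, hw⟩) x hxB).symm

/-- The normal closure of a central elementary abelian subgroup of a Sylow `2`-subgroup is reduced. -/
theorem reduced_closure (hchar : Subgroup.centralizer (Cfsg.pCore 2 G : Set G) ≤ Cfsg.pCore 2 G)
    (S : Sylow 2 G) {Z : Subgroup G} (hZS : Z ≤ (S : Subgroup G))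
    (hZc : Z ≤ Subgroup.centralizer (S : Set G)) (hZe : ∀ z ∈ Z, z * z = 1) :
    ∃ (V : Subgroup G) (_ : V.Normal), Z ≤ V ∧ (∀ v ∈ V, v * v = 1) ∧ V ≤ (S : Subgroup G) ∧
      Cfsg.pCore 2 (G ⧸ Subgroup.centralizer (V : Set G)) = ⊥ := by
  haveI : Fact (Nat.Prime 2) := ⟨Nat.prime_two⟩
  set Q := Cfsg.pCore 2 G with hQ
  haveI : Q.Normal := Fitting.pCore_normal 2
  have hQS : Q ≤ (S : Subgroup G) := le_sylow_of_normal (Fitting.pCore_isPGroup 2) S
  have hZQ : Z ≤ Q := (hZc.trans (centralizer_mono hQS)).trans hchar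
  have hcQ : ∀ g : G, cj g Z ≤ Subgroup.centralizer (Q : Set G) := fun g =>
    (cj_mono g (hZc.trans (centralizer_mono hQS))).trans (Cfsg.Agent.S4022.cj_normal g _).le
  have hgQ : ∀ g : G, cj g Z ≤ Q := fun g => (hcQ g).trans hchar
  set V := ⨆ g : G, cj g Z with hV
  haveI hVn : V.Normal := Subgroup.normalizer_eq_top_iff.mp (eq_top_iff.mpr fun g _ =>
    mem_normalizer_of_cj (Subgroup.eq_of_le_of_card_ge (by
      rw [hV, cj, Subgroup.map_iSup]
      exact iSup_le fun h => (cj_mul g h Z).ge.trans (le_iSup (fun g => cj g Z) (g * h)))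
      (card_cj _ _).ge))
  refine ⟨V, hVn, (Cfsg.Agent.S4270.cj_one Z).ge.trans (le_iSup (fun g => cj g Z) 1),
    sq_one_iSup (fun g => by rintro _ ⟨v, hv, rfl⟩; rw [← map_mul, hZe v hv, map_one])
      (fun i j => (hcQ i).trans (centralizer_mono (hgQ j))),
    (iSup_le hgQ).trans hQS, pCore_quotient_eq_bot fun T hT hCT hTp => ?_⟩
  haveI := hT
  set C := Subgroup.centralizer (V : Set G) with hC
  set P := (S : Subgroup G) ⊓ T with hP
  have hT2 : T = C ⊔ P := by
    refine le_antisymm ?_ (sup_le hCT inf_le_right)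
    refine Subgroup.relIndex_eq_one.mp (Nat.eq_one_of_dvd_coprimes (a := P.relIndex T) ?_ ?_
      (Subgroup.relIndex_dvd_of_le_left T (le_sup_left : C ≤ C ⊔ P)))
    · show Nat.Coprime (P.relIndex T) (C.relIndex T)
      obtain ⟨j, hj⟩ := IsPGroup.iff_card.mp hTp
      rw [← Subgroup.relIndex_ker, QuotientGroup.ker_mk'] at hj
      rw [hj, hP, Subgroup.inf_relIndex_right]
      exact ((Nat.prime_two.coprime_iff_not_dvd.mpr (not_two_dvd_relIndex S T)).symm).pow_right j
    · exact Subgroup.relIndex_dvd_of_le_left T le_sup_right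
  let R : Sylow 2 T := ((S.2.to_le inf_le_left : IsPGroup 2 P).comap_of_injective T.subtype
    T.subtype_injective).toSylow (by
      show ¬ 2 ∣ P.relIndex T
      rw [hP, Subgroup.inf_relIndex_right]
      exact not_two_dvd_relIndex S T)
  have hF := Sylow.normalizer_sup_eq_top R
  rw [show (R : Subgroup T).map T.subtype = P from Subgroup.map_subgroupOf_eq_of_le inf_le_right,
    sup_comm] at hF
  have hPC : P ≤ C := by
    rw [hC, Subgroup.le_centralizer_iff, hV]
    refine iSup_le fun g => ?_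
    obtain ⟨t, ht, m, hm, rfl⟩ := Subgroup.mem_sup_of_normal_left.mp (hF.ge (Subgroup.mem_top g))
    have hPm : P ≤ Subgroup.centralizer (cj m Z : Set G) := by
      intro y hy
      have hy' : m⁻¹ * y * m ∈ (S : Subgroup G) :=
        ((Subgroup.mem_normalizer_iff''.mp hm y).mp hy).1
      refine mem_centralizer_iff_conj.mpr ?_
      rintro _ ⟨z, hz, rfl⟩
      show y * (m * z * m⁻¹) * y⁻¹ = m * z * m⁻¹
      calc y * (m * z * m⁻¹) * y⁻¹ = m * ((m⁻¹ * y * m) * z * (m⁻¹ * y * m)⁻¹) * m⁻¹ := by group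
        _ = _ := by rw [mem_centralizer_iff_conj.mp (Subgroup.le_centralizer_iff.mp hZc hy') z hz]
    obtain ⟨a, ha, b, hb, rfl⟩ := Subgroup.mem_sup_of_normal_left.mp (hT2.le ht)
    have e : cj (a * b * m) Z = cj m Z := by
      have h1 : cj b (cj m Z) = cj m Z :=
        cj_of_mem_normalizer (Subgroup.centralizer_le_normalizer _ (hPm hb))
      have h2 : cj a (cj m Z) = cj m Z := cj_of_mem_normalizer (Subgroup.centralizer_le_normalizer _
        (centralizer_mono (le_iSup (fun g => cj g Z) m) ha))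
      rw [cj_mul, cj_mul, h1, h2]
    rw [e]
    exact Subgroup.le_centralizer_iff.mp hPm
  rw [hT2]
  exact sup_le le_rfl hPC

end CfsgLib.PushUp
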