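import Mathlib
import Cfsg.Prelude.Def_LocalEven
import Cfsg.Agent.Lib.Offender.Involves
import Cfsg.Agent.Lib.Coprime.Generation
import Cfsg.Agent.S4270

/-!
Squares inequality for `2`-groups acting on elementary abelian `2`-groups in `S₄`-free groups:
general tools.

`Sq B V` says `|B : C_B(V)|² ≤ |V : C_V(B)|`.
-/

set_option autoImplicit false
set_option linter.style.haveILetI false

namespace CfsgLib.PushUp

open scoped Pointwise
open Cfsg.Agent.S4022 (cj)

variable {G : Type*} [Group G]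

/-- `|V : C_V(B)|`. -/
noncomputable abbrev cd (V B : Subgroup G) : ℕ := (Subgroup.centralizer (B : Set G)).relIndex V

/-- `|B : C_B(V)|² ≤ |V : C_V(B)|`. -/
def Sq (B V : Subgroup G) : Prop := cd B V ^ 2 ≤ cd V B

/-- `B` is a `2`-group normalizing `V` and inducing an elementary abelian group on it. -/
structure EImg (B V : Subgroup G) : Prop where
  isPGroup : IsPGroup 2 B
  le_normalizer : B ≤ Subgroup.normalizer (V : Set G)
  sq_mem : ∀ b ∈ B, b * b ∈ Subgroup.centralizer (V : Set G)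

theorem conj_fix_iff {b v : G} : b * v * b⁻¹ = v ↔ v * b = b * v := by
  rw [mul_inv_eq_iff_eq_mul, eq_comm]

theorem mem_centralizer_iff_conj {b : G} {V : Subgroup G} :
    b ∈ Subgroup.centralizer (V : Set G) ↔ ∀ v ∈ V, b * v * b⁻¹ = v := by
  simp only [Subgroup.mem_centralizer_iff, SetLike.mem_coe, conj_fix_iff]

theorem centralizer_mono {A B : Subgroup G} (h : A ≤ B) :
    Subgroup.centralizer (B : Set G) ≤ Subgroup.centralizer (A : Set G) :=
  Subgroup.centralizer_le h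

theorem centralizer_sup (V W : Subgroup G) :
    Subgroup.centralizer ((V ⊔ W : Subgroup G) : Set G)
      = Subgroup.centralizer (V : Set G) ⊓ Subgroup.centralizer (W : Set G) :=
  le_antisymm (le_inf (centralizer_mono le_sup_left) (centralizer_mono le_sup_right))
    (Subgroup.le_centralizer_iff.mp (sup_le (Subgroup.le_centralizer_iff.mp inf_le_left)
      (Subgroup.le_centralizer_iff.mp inf_le_right)))

theorem centralizer_map {H : Type*} [Group H] (f : G →* H) (hf : Function.Injective f)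
    (A : Subgroup G) :
    (Subgroup.centralizer ((A.map f : Subgroup H) : Set H)).comap f
      = Subgroup.centralizer (A : Set G) := by
  ext x
  simp only [Subgroup.mem_comap, Subgroup.mem_centralizer_iff, Subgroup.coe_map, Set.forall_mem_image,
    ← map_mul, hf.eq_iff]

theorem cd_map {H : Type*} [Group H] (f : G →* H) (hf : Function.Injective f) (V B : Subgroup G) :
    cd (V.map f) (B.map f) = cd V B := by
  rw [cd, ← Subgroup.relIndex_comap, centralizer_map f hf]

theorem cd_cj (g : G) (V B : Subgroup G) : cd (cj g V) (cj g B) = cd V B :=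
  cd_map _ (MulAut.conj g).injective V B

theorem cd_eq_one_iff {V B : Subgroup G} :
    cd V B = 1 ↔ V ≤ Subgroup.centralizer (B : Set G) := Subgroup.relIndex_eq_one

theorem cd_eq_one_comm {V B : Subgroup G} : cd V B = 1 ↔ cd B V = 1 := by
  rw [cd_eq_one_iff, cd_eq_one_iff, Subgroup.le_centralizer_iff]

variable [Finite G]

theorem cd_pos (V B : Subgroup G) : 0 < cd V B := Nat.pos_of_ne_zero Subgroup.index_ne_zero_of_finite

theorem cd_mono_left {V B B' : Subgroup G} (h : B' ≤ B) : cd V B' ≤ cd V B :=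
  Subgroup.relIndex_le_of_le_left (centralizer_mono h) (cd_pos V B).ne'

theorem cd_mono_right {V V' B : Subgroup G} (h : V' ≤ V) : cd V' B ≤ cd V B :=
  Subgroup.relIndex_le_of_le_right h (cd_pos V B).ne'

theorem cd_mul {V B B₁ : Subgroup G} (h : B₁ ≤ B) :
    cd (Subgroup.centralizer (B₁ : Set G) ⊓ V) B * cd V B₁ = cd V B := by
  rw [cd, cd, cd, Subgroup.relIndex_inf_mul_relIndex, inf_eq_left.mpr (centralizer_mono h)]

/-- `|V : C_V(B)| ≥ |V' : C_{V'}(B)| |V : C_V(B₁)|` if `B₁ ≤ B` centralizes `V' ≤ V`. -/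
theorem cd_prod {V V' B B₁ : Subgroup G} (h : B₁ ≤ B) (hV : V' ≤ V)
    (hc : V' ≤ Subgroup.centralizer (B₁ : Set G)) : cd V' B * cd V B₁ ≤ cd V B :=
  (Nat.mul_le_mul_right _ (cd_mono_right (le_inf hc hV))).trans_eq (cd_mul h)

/-- `|B : C_B(V)| = |B₁ : C_{B₁}(V)| |B : B₁|` for `B₁ = C_B(V')`. -/
theorem cd_kernel {V V' B : Subgroup G} (hV : V' ≤ V) :
    cd (Subgroup.centralizer (V' : Set G) ⊓ B) V * cd B V' = cd B V := by
  rw [cd, cd, cd, Subgroup.relIndex_inf_mul_relIndex, inf_eq_left.mpr (centralizer_mono hV)]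

theorem Sq.sup {B V' V'' : Subgroup G} (h' : Sq B V')
    (h'' : Sq (Subgroup.centralizer (V' : Set G) ⊓ B) V'') : Sq B (V' ⊔ V'') := by
  set B₁ := Subgroup.centralizer (V' : Set G) ⊓ B with hB₁
  have h1 : cd B (V' ⊔ V'') = cd B₁ V'' * cd B V' := by
    simp only [cd, centralizer_sup, hB₁]
    rw [Subgroup.relIndex_inf_mul_relIndex, inf_comm]
  have h2 := cd_prod (V := V' ⊔ V'') (B := B) (B₁ := B₁) inf_le_right le_sup_left
    (Subgroup.le_centralizer_iff.mp inf_le_left)
  rw [Sq, h1, mul_pow, mul_comm]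
  exact (Nat.mul_le_mul h' (h''.trans (cd_mono_right le_sup_right))).trans h2

theorem Sq.finsetSup {B : Subgroup G} (T : Finset (Subgroup G))
    (h : ∀ B' ≤ B, ∀ V ∈ T, Sq B' V) : ∀ B' ≤ B, Sq B' (T.sup id) := by
  classical
  induction T using Finset.induction_on with
  | empty =>
    intro B' _
    have h2 : B' ≤ Subgroup.centralizer ((⊥ : Subgroup G) : Set G) := fun b _ =>
      mem_centralizer_iff_conj.mpr fun v hv => by rw [Subgroup.mem_bot.mp hv, mul_one, mul_inv_cancel]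
    have h1 := cd_eq_one_iff.mpr h2
    rw [Finset.sup_empty, Sq, h1, one_pow]
    exact cd_pos _ _
  | insert V T _ ih =>
    intro B' hB'
    rw [Finset.sup_insert, id]
    exact (h B' hB' V (Finset.mem_insert_self _ _)).sup
      (ih (fun B'' h'' W hW => h B'' h'' W (Finset.mem_insert_of_mem hW)) _ (inf_le_right.trans hB'))

theorem Sq.sSup {B : Subgroup G} (T : Set (Subgroup G)) (h : ∀ B' ≤ B, ∀ V ∈ T, Sq B' V) :
    Sq B (sSup T) := by
  have hT := T.toFinite
  have := Sq.finsetSup hT.toFinset (fun B' hB' V hV => h B' hB' V (hT.mem_toFinset.mp hV)) B le_rfl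
  rwa [Finset.sup_id_eq_sSup, hT.coe_toFinset] at this

theorem exists_cd_eq {V : Subgroup G} (hV : IsPGroup 2 V) (B : Subgroup G) :
    ∃ j, cd V B = 2 ^ j := by
  obtain ⟨k, hk⟩ := IsPGroup.iff_card.mp hV
  obtain ⟨j, -, hj⟩ := (Nat.dvd_prime_pow Nat.prime_two).mp (hk ▸ Subgroup.relIndex_dvd_card
    (H := Subgroup.centralizer (B : Set G)) (K := V))
  exact ⟨j, hj⟩

theorem four_le_cd {V : Subgroup G} (hV : IsPGroup 2 V) {B : Subgroup G} (h : ¬ cd V B ≤ 2) :
    4 ≤ cd V B := by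
  obtain ⟨j, hj⟩ := exists_cd_eq hV B
  rw [hj] at h ⊢
  rcases j with _ | _ | j
  · simp at h
  · simp at h
  · exact (Nat.pow_le_pow_right two_pos (show 2 ≤ j + 2 by omega) : 2 ^ 2 ≤ 2 ^ (j + 2))

theorem two_le_cd {V B : Subgroup G} (h : ¬ V ≤ Subgroup.centralizer (B : Set G)) :
    2 ≤ cd V B := by
  have h1 := cd_pos V B
  have h2 : cd V B ≠ 1 := fun e => h (cd_eq_one_iff.mp e)
  omega

theorem EImg.mono {B V B' V' : Subgroup G} (h : EImg B V) (hB : B' ≤ B) (hV : V' ≤ V)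
    (hn : B' ≤ Subgroup.normalizer (V' : Set G)) : EImg B' V' :=
  ⟨h.isPGroup.to_le hB, hn, fun b hb => centralizer_mono hV (h.sq_mem b (hB hb))⟩

theorem EImg.comm {B V : Subgroup G} (h : EImg B V) {a b : G} (ha : a ∈ B) (hb : b ∈ B) :
    a * b * a⁻¹ * b⁻¹ ∈ Subgroup.centralizer (V : Set G) := by
  have hconj : ∀ {c w : G}, c ∈ Subgroup.normalizer (V : Set G) →
      w ∈ Subgroup.centralizer (V : Set G) → c * w * c⁻¹ ∈ Subgroup.centralizer (V : Set G) := by
    intro c w hc hw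
    refine mem_centralizer_iff_conj.mpr fun v hv => ?_
    have hv' : c⁻¹ * v * c ∈ V := (Subgroup.mem_normalizer_iff''.mp hc v).mp hv
    calc c * w * c⁻¹ * v * (c * w * c⁻¹)⁻¹ = c * (w * (c⁻¹ * v * c) * w⁻¹) * c⁻¹ := by group
      _ = v := by rw [mem_centralizer_iff_conj.mp hw _ hv']; group
  have e : a * b * a⁻¹ * b⁻¹
      = (a * b) * (a * b) * (b⁻¹ * (a * a)⁻¹ * b⁻¹⁻¹) * (b * b)⁻¹ := by group
  rw [e]
  exact mul_mem (mul_mem (h.sq_mem _ (mul_mem ha hb)) (hconj (inv_mem (h.le_normalizer hb))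
    (inv_mem (h.sq_mem a ha)))) (inv_mem (h.sq_mem b hb))

/-- An element of odd period stabilizing a chain `D ≤ N` of `2`-groups centralizes `N`. -/
theorem fix_of_stabilizes {N : Subgroup G} (hN : IsPGroup 2 N) {y : G} {n : ℕ} (hn : Odd n)
    {v : G} (hz : v⁻¹ * (y * v * y⁻¹) ∈ N)
    (hyz : y * (v⁻¹ * (y * v * y⁻¹)) * y⁻¹ = v⁻¹ * (y * v * y⁻¹))
    (hfix : y ^ n * v * (y ^ n)⁻¹ = v) : y * v * y⁻¹ = v := by
  set z := v⁻¹ * (y * v * y⁻¹) with hzdef
  have hpow : ∀ k : ℕ, y ^ k * v * (y ^ k)⁻¹ = v * z ^ k := by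
    intro k
    induction k with
    | zero => simp
    | succ k ih =>
      have hc : y * z ^ k * y⁻¹ = z ^ k := by rw [← conj_pow, hyz]
      calc y ^ (k + 1) * v * (y ^ (k + 1))⁻¹ = y * (y ^ k * v * (y ^ k)⁻¹) * y⁻¹ := by
            rw [pow_succ']; group
        _ = (y * v * y⁻¹) * (y * z ^ k * y⁻¹) := by rw [ih]; group
        _ = v * z ^ (k + 1) := by
          rw [hc, pow_succ', show y * v * y⁻¹ = v * z by rw [hzdef]; group, mul_assoc]
  have h1 : z ^ n = 1 := by
    have := hpow n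
    rw [hfix] at this
    exact mul_eq_left.mp this.symm
  obtain ⟨j, hj⟩ := hN ⟨z, hz⟩
  have hj' : z ^ 2 ^ j = 1 := congrArg Subtype.val hj
  have hz1 : z = 1 := orderOf_eq_one_iff.mp (Nat.eq_one_of_dvd_coprimes
    ((Nat.coprime_two_left.mpr hn).symm.pow_right j) (orderOf_dvd_of_pow_eq_one h1)
    (orderOf_dvd_of_pow_eq_one hj'))
  exact (inv_mul_eq_one.mp hz1).symm

/-- In an `S₄`-free group an element of odd period inverted by some element, with both normalizing a
`2`-group `N` and centralizing `D ≤ N` of index at most four, centralizes `N`. -/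
theorem pair (hS4 : ¬ Cfsg.Involves (Equiv.Perm (Fin 4)) G) {N D : Subgroup G} (hDN : D ≤ N)
    (hN : IsPGroup 2 N) (hND : N ≤ Subgroup.normalizer (D : Set G)) (hidx : D.relIndex N ≤ 4)
    {u y : G} (hu : u ∈ Subgroup.normalizer (N : Set G))
    (hy : y ∈ Subgroup.normalizer (N : Set G))
    (huD : u ∈ Subgroup.centralizer (D : Set G)) (hyD : y ∈ Subgroup.centralizer (D : Set G))
    (hinv : ∀ v ∈ N, (u * y * u⁻¹) * v * (u * y * u⁻¹)⁻¹ = y⁻¹ * v * y)
    {n : ℕ} (hn : Odd n) (hfix : y ^ n ∈ Subgroup.centralizer (N : Set G)) :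
    y ∈ Subgroup.centralizer (N : Set G) := by
  refine mem_centralizer_iff_conj.mpr fun v hv => ?_
  by_cases hstab : v⁻¹ * (y * v * y⁻¹) ∈ D
  · exact fix_of_stabilizes hN hn (hDN hstab) (mem_centralizer_iff_conj.mp hyD _ hstab)
      (mem_centralizer_iff_conj.mp hfix v hv)
  exfalso
  have hyv : y * v * y⁻¹ ∈ N := (Subgroup.mem_normalizer_iff.mp hy v).mp hv
  have hvD : v ∉ D := fun h => hstab (by
    rw [mem_centralizer_iff_conj.mp hyD v h, inv_mul_cancel]; exact one_mem _)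
  have h2 : D.relIndex N ≠ 2 := fun h2 => hstab (by
    have hyvD : y * v * y⁻¹ ∉ D := fun h => by
      have e := mem_centralizer_iff_conj.mp hyD _ h
      exact hvD ((show y * v * y⁻¹ = v from mul_left_cancel (mul_right_cancel e)) ▸ h)
    have h := Subgroup.mul_mem_iff_of_index_two (H := D.subgroupOf N) h2
      (a := ⟨v, hv⟩⁻¹) (b := ⟨_, hyv⟩)
    simp only [inv_mem_iff, Subgroup.mem_subgroupOf, Subgroup.coe_mul, Subgroup.coe_inv] at h
    exact h.mpr (iff_of_false hvD hyvD))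
  have h4 : D.relIndex N = 4 := by
    obtain ⟨k, hk⟩ := IsPGroup.iff_card.mp hN
    obtain ⟨j, -, hj⟩ := (Nat.dvd_prime_pow Nat.prime_two).mp (hk ▸ Subgroup.relIndex_dvd_card
      (H := D) (K := N))
    have h1 : D.relIndex N ≠ 1 := fun h1 => hvD (Subgroup.relIndex_eq_one.mp h1 hv)
    rw [hj] at hidx h1 h2 ⊢
    rcases j with _ | _ | _ | j
    · exact absurd rfl h1
    · exact absurd rfl h2
    · rfl
    · exact absurd hidx (not_le.mpr (lt_of_lt_of_le (by norm_num : 4 < 2 ^ 3)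
        (Nat.pow_le_pow_right two_pos (by omega))))
  set K := N ⊔ Subgroup.closure {u, y} with hK
  have hNK : N ≤ K := le_sup_left
  have huK : u ∈ K := Subgroup.mem_sup_right (Subgroup.subset_closure (Set.mem_insert _ _))
  have hyK : y ∈ K := Subgroup.mem_sup_right (Subgroup.subset_closure (Set.mem_insert_of_mem _ rfl))
  have hKD : K ≤ Subgroup.normalizer (D : Set G) := sup_le hND ((Subgroup.closure_le _).mpr (by
    rintro x (rfl | rfl)
    · exact Subgroup.centralizer_le_normalizer _ huD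
    · exact Subgroup.centralizer_le_normalizer _ hyD))
  haveI : (D.subgroupOf K).Normal := Subgroup.normal_subgroupOf_of_le_normalizer hKD
  set π := QuotientGroup.mk' (D.subgroupOf K) with hπ
  have hV : Nat.card ((N.subgroupOf K).map π) = 4 := by
    rw [← Subgroup.relIndex_ker, hπ, QuotientGroup.ker_mk', Subgroup.relIndex_subgroupOf hNK, h4]
  have hnorm : ∀ {g : G} (hg : g ∈ K), g ∈ Subgroup.normalizer (N : Set G) →
      π ⟨g, hg⟩ ∈ Subgroup.normalizer (((N.subgroupOf K).map π : Subgroup _) : Set _) := by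
    intro g hg hgn
    have h1 : (⟨g, hg⟩ : K) ∈ Subgroup.normalizer ((N.subgroupOf K : Subgroup K) : Set K) :=
      Subgroup.mem_normalizer_iff.mpr fun k => Subgroup.mem_normalizer_iff.mp hgn k
    exact Subgroup.le_normalizer_map π ⟨_, h1, rfl⟩
  refine hS4 (Offender.involves_of_injective K.subtype K.subtype_injective
    (Offender.involves_of_surjective π (QuotientGroup.mk'_surjective _)
      (Offender.involves_perm_four hV (hnorm huK hu) (hnorm hyK hy) ?_ ?_ ⟨n, hn, ?_⟩)))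
  · rintro _ ⟨⟨w, hwK⟩, hw, rfl⟩
    simp only [← map_inv, ← map_mul]
    exact congrArg π (Subtype.ext (by simpa [mul_assoc] using hinv w hw))
  · refine ⟨π ⟨v, hNK hv⟩, ⟨⟨v, hNK hv⟩, hv, rfl⟩, fun e => hstab ?_⟩
    simp only [hπ, QuotientGroup.mk'_apply] at e
    have h := QuotientGroup.eq.mp e.symm
    simpa [Subgroup.mem_subgroupOf] using h
  · rintro _ ⟨⟨w, hwK⟩, hw, rfl⟩
    simp only [← map_pow, ← map_inv, ← map_mul]
    exact congrArg π (Subtype.ext (by simpa using mem_centralizer_iff_conj.mp hfix w hw))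

/-- The odd part of an element inverted by an involution. -/
theorem exists_odd_pow (g : G) :
    ∃ k : ℕ, Odd (orderOf (g ^ 2 ^ k)) := by
  obtain ⟨k, m, hm, hkm⟩ := Nat.exists_eq_pow_mul_and_not_dvd (orderOf_pos g).ne' 2 (by norm_num)
  refine ⟨k, ?_⟩
  rw [orderOf_pow' _ (by positivity), hkm, Nat.gcd_mul_right_left, Nat.mul_div_cancel_left _
    (by positivity)]
  exact Nat.odd_iff.mpr (by omega)

/-- A `2`-group `B` of exponent two acting non-trivially on a group `R` of odd order has a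
hyperplane centralizing an element of `R` inverted by an element outside it. -/
theorem exists_inverted {B R : Subgroup G} (hB : ∀ b ∈ B, b * b = 1)
    (hBR : B ≤ Subgroup.normalizer (R : Set G)) (hR : Odd (Nat.card R))
    (hne : ¬ R ≤ Subgroup.centralizer (B : Set G)) :
    ∃ B₂ ≤ B, B₂.relIndex B = 2 ∧ ∃ x ∈ B, x ∉ B₂ ∧ ∃ d ∈ R, d ≠ 1 ∧ x * d * x⁻¹ = d⁻¹ ∧
      ∀ b ∈ B₂, b * d = d * b := by
  classical
  haveI : Fact (Nat.Prime 2) := ⟨Nat.prime_two⟩
  have hsq : ∀ b ∈ B, b⁻¹ = b := fun b hb => inv_eq_of_mul_eq_one_right (hB b hb)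
  have hcomm : ∀ a ∈ B, ∀ b ∈ B, a * b = b * a := fun a ha b hb => by
    rw [← hsq _ (mul_mem ha hb), mul_inv_rev, hsq a ha, hsq b hb]
  have hBp : IsPGroup 2 B := fun b => ⟨1, Subtype.ext (by
    rw [pow_one, SubmonoidClass.coe_pow, pow_two, hB b b.2]; rfl)⟩
  have key : ∃ B₂ ≤ B, B₂.relIndex B = 2 ∧
      ∃ f ∈ R ⊓ Subgroup.centralizer (B₂ : Set G), f ∉ Subgroup.centralizer (B : Set G) := by
    by_cases h4 : 4 ≤ Nat.card B
    · by_contra! hcon
      refine hne (Coprime.le_of_hyperplane_centralizer_le (p := 2)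
        (Y := Subgroup.centralizer (B : Set G))
        ⟨⟨fun a b => Subtype.ext (hcomm a a.2 b b.2)⟩⟩ (fun a ha => by rw [pow_two, hB a ha]) h4
        hBR ?_ fun B₂ hB₂ hidx => ?_)
      · obtain ⟨j, hj⟩ := IsPGroup.iff_card.mp hBp
        exact hj ▸ (Nat.coprime_two_left.mpr hR).pow_left j
      · have h0 : B₂.relIndex B ≠ 0 := Subgroup.index_ne_zero_of_finite
        rcases (show B₂.relIndex B = 1 ∨ B₂.relIndex B = 2 by omega) with h | h
        · rw [le_antisymm hB₂ (Subgroup.relIndex_eq_one.mp h)]; exact inf_le_right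
        · exact fun f hf => hcon B₂ hB₂ h f hf
    · refine ⟨⊥, bot_le, ?_, ?_⟩
      · rw [Subgroup.relIndex_bot_left]
        obtain ⟨j, hj⟩ := IsPGroup.iff_card.mp hBp
        have hB1 : Nat.card B ≠ 1 := fun h => hne (by
          rw [Subgroup.card_eq_one.mp h]
          exact fun x _ => mem_centralizer_iff_conj.mpr fun v hv => by
            rw [Subgroup.mem_bot.mp hv, mul_one, mul_inv_cancel])
        rw [hj] at h4 hB1 ⊢
        rcases j with _ | _ | j
        · exact absurd rfl hB1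
        · rfl
        · exact absurd (Nat.pow_le_pow_right two_pos (show 2 ≤ j + 2 by omega)) h4
      · obtain ⟨f, hf, hf'⟩ := SetLike.not_le_iff_exists.mp hne
        exact ⟨f, ⟨hf, mem_centralizer_iff_conj.mpr fun v hv => by
          rw [Subgroup.mem_bot.mp hv, mul_one, mul_inv_cancel]⟩, hf'⟩
  obtain ⟨B₂, hB₂, hidx, f, ⟨hfR, hfc⟩, hf⟩ := key
  rw [Subgroup.mem_centralizer_iff] at hf
  push Not at hf
  obtain ⟨x, hx, hxf⟩ := hf
  have hx2 : x ∉ B₂ := fun h => hxf (Subgroup.mem_centralizer_iff.mp hfc x h)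
  refine ⟨B₂, hB₂, hidx, x, hx, hx2, f * (x * f⁻¹ * x⁻¹),
    mul_mem hfR ((Subgroup.mem_normalizer_iff.mp (hBR hx) _).mp (inv_mem hfR)), fun e => ?_, ?_, ?_⟩
  · apply hxf
    have e' := mul_eq_one_iff_eq_inv.mp e
    have : f = x * f * x⁻¹ := e'.trans (by group)
    exact (eq_mul_inv_iff_mul_eq.mp this).symm
  · have hxx : x * x = 1 := hB x hx
    calc x * (f * (x * f⁻¹ * x⁻¹)) * x⁻¹ = x * f * x * f⁻¹ * (x * x)⁻¹ := by group
      _ = x * f * x⁻¹ * f⁻¹ := by rw [hxx, inv_one, mul_one, hsq x hx]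
      _ = (f * (x * f⁻¹ * x⁻¹))⁻¹ := by group
  · intro b hb
    have hbf : Commute b f := Subgroup.mem_centralizer_iff.mp hfc b hb
    have hbx : Commute b x := hcomm b (hB₂ hb) x hx
    exact (hbf.mul_right ((hbx.mul_right hbf.inv_right).mul_right hbx.inv_right)).eq

theorem relIndex_two {K V V₂ : Subgroup G} (h : V₂.relIndex V = 2) :
    K.relIndex V ≤ 2 * K.relIndex V₂ := by
  have h1 : (K ⊓ V₂).relIndex V = K.relIndex (V₂ ⊓ V) * V₂.relIndex V :=
    (Subgroup.relIndex_inf_mul_relIndex _ _ _).symm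
  have h2 : K.relIndex V ≤ (K ⊓ V₂).relIndex V :=
    Subgroup.relIndex_le_of_le_left inf_le_left Subgroup.index_ne_zero_of_finite
  have h3 : K.relIndex (V₂ ⊓ V) ≤ K.relIndex V₂ :=
    Subgroup.relIndex_le_of_le_right inf_le_left Subgroup.index_ne_zero_of_finite
  rw [h1, h] at h2
  omega

theorem inf_le_of_relIndex_eq {K L V : Subgroup G} (hKL : K ≤ L)
    (h : K.relIndex V = L.relIndex V) : L ⊓ V ≤ K := by
  have h1 : K.relIndex (L ⊓ V) * L.relIndex V = K.relIndex V := by
    rw [Subgroup.relIndex_inf_mul_relIndex, inf_eq_left.mpr hKL]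
  rw [h] at h1
  exact Subgroup.relIndex_eq_one.mp
    ((Nat.mul_eq_right Subgroup.index_ne_zero_of_finite).mp h1)

theorem centralizer_fix_sq {g : G} {z : G} (hodd : Odd (orderOf g))
    (h : g ^ 2 ∈ Subgroup.centralizer ({z} : Set G)) : g ∈ Subgroup.centralizer ({z} : Set G) := by
  obtain ⟨m, hm⟩ := exists_pow_eq_self_of_coprime (x := g) (n := 2) (Nat.coprime_two_left.mpr hodd)
  exact hm ▸ pow_mem h m

end CfsgLib.PushUp
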