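import Cfsg.Agent.Lib.PushUp.Key

/-!
The exceptional configuration of the pushing-up argument: a four-group `⟨v, x⟩` with common fixed
points of index four on an elementary abelian `2`-group.
-/

set_option autoImplicit false
set_option linter.style.haveILetI false

namespace CfsgLib.PushUp

open Cfsg.Agent.S4022 (cj card_cj cj_mono)
open Cfsg.Agent.S4270 (mem_normalizer_of_cj cj_of_mem_normalizer cj_cancel)

variable {G : Type*} [Group G] [Finite G]

theorem mem_centralizer_zpowers {g x : G} :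
    g ∈ Subgroup.centralizer (Subgroup.zpowers x : Set G) ↔ x * g * x⁻¹ = g := by
  rw [conj_fix_iff]
  refine ⟨fun h => (Subgroup.mem_centralizer_iff.mp h x (Subgroup.mem_zpowers x)).symm, fun h => ?_⟩
  exact Coprime.mem_centralizer_singleton_zpowers (Subgroup.mem_centralizer_singleton_iff.mpr h)

theorem four_case (hS4 : ¬ Cfsg.Involves (Equiv.Perm (Fin 4)) G) {V U P : Subgroup G}
    (hV : IsPGroup 2 V) (hVc : V ≤ Subgroup.centralizer (V : Set G)) (heV : ∀ w ∈ V, w * w = 1)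
    (hUV : U ≤ V) (hP : IsPGroup 2 P) (hPU : P ≤ Subgroup.normalizer (U : Set G))
    (hSq : ∀ E ≤ P, EImg E U → Sq E U) {x v c : G} (hxx : x * x = 1) (hvv : v * v = 1) (hxv : x * v = v * x)
    (hvP : v ∈ P) (hcP : c ∈ Subgroup.normalizer (P : Set G))
    (hxV : x ∈ Subgroup.normalizer (V : Set G)) (hcV : c ∈ Subgroup.normalizer (V : Set G))
    (hc : Odd (orderOf c)) (hxc : x * c * x⁻¹ = c⁻¹) (hxU : x ∈ Subgroup.centralizer (U : Set G))
    (hcU : c ∉ Subgroup.centralizer (U : Set G))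
    (hfix : ∀ w ∈ V, x * w * x⁻¹ = w ↔ v * w * v⁻¹ = w)
    (hidx : cd V (Subgroup.zpowers x) = 4) : False := by
  classical
  set C := Subgroup.centralizer (Subgroup.zpowers x : Set G) ⊓ V with hC
  have hCV : C ≤ V := inf_le_right
  have hCx : ∀ {w : G}, w ∈ C ↔ x * w * x⁻¹ = w ∧ w ∈ V := fun {w} => by
    rw [hC, Subgroup.mem_inf, mem_centralizer_zpowers]
  have hCv : ∀ {w : G}, w ∈ C → v * w * v⁻¹ = w := fun hw => (hfix _ (hCV hw)).mp (hCx.mp hw).1
  have hUC : U ≤ C := fun w hw => hCx.mpr ⟨mem_centralizer_iff_conj.mp hxU w hw, hUV hw⟩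
  have hCidx : C.relIndex V = 4 := by rw [hC, Subgroup.inf_relIndex_right]; exact hidx
  have hVpow : ∀ (j : ℕ) {w : G}, w ∈ V → (c ^ j)⁻¹ * w * c ^ j ∈ V := fun j w hw =>
    (Subgroup.mem_normalizer_iff''.mp (pow_mem hcV j) w).mp hw
  have hxcj : ∀ j : ℕ, x * c ^ j * x⁻¹ = (c ^ j)⁻¹ := fun j => by rw [← conj_pow, hxc, inv_pow]
  have hxinv : x⁻¹ = x := inv_eq_of_mul_eq_one_right hxx
  have hback : ∀ (j : ℕ) {w : G}, w ∈ C → (c ^ j)⁻¹ * w * c ^ j ∈ C →
      c ^ (2 * j) ∈ Subgroup.centralizer ({w} : Set G) := by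
    intro j w hw hw'
    refine Subgroup.mem_centralizer_singleton_iff.mpr (conj_fix_iff.mp ?_).symm
    have h1 : c ^ j * w * (c ^ j)⁻¹ = (c ^ j)⁻¹ * w * c ^ j :=
      calc c ^ j * w * (c ^ j)⁻¹ = (x * c ^ j * x⁻¹)⁻¹ * w * (x * c ^ j * x⁻¹) := by
            rw [hxcj, inv_inv]
        _ = x * ((c ^ j)⁻¹ * (x⁻¹ * w * x) * c ^ j) * x⁻¹ := by group
        _ = x * ((c ^ j)⁻¹ * w * c ^ j) * x⁻¹ := by
            rw [show x⁻¹ * w * x = w by nth_rw 1 [← (hCx.mp hw).1]; group]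
        _ = _ := (hCx.mp hw').1
    calc c ^ (2 * j) * w * (c ^ (2 * j))⁻¹ = c ^ j * (c ^ j * w * (c ^ j)⁻¹) * (c ^ j)⁻¹ := by
          rw [two_mul, pow_add]; group
      _ = w := by rw [h1]; group
  have hroot : ∀ (j : ℕ) {w : G}, c ^ (2 * j) ∈ Subgroup.centralizer ({w} : Set G) →
      c ^ j ∈ Subgroup.centralizer ({w} : Set G) := fun j w h =>
    centralizer_fix_sq (hc.of_dvd_nat (orderOf_pow_dvd j)) (by rwa [← pow_mul, mul_comm])
  set I := C ⊓ Subgroup.centralizer (Subgroup.zpowers c : Set G) with hI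
  have hIC : I ≤ C := inf_le_left
  have hIc : ∀ {w : G}, w ∈ C → c ∈ Subgroup.centralizer ({w} : Set G) → w ∈ I := fun hw h =>
    ⟨hw, mem_centralizer_zpowers.mpr (conj_fix_iff.mpr
      (Subgroup.mem_centralizer_singleton_iff.mp h).symm)⟩
  have hIcj : ∀ (j : ℕ) {w : G}, w ∈ I → c ^ j * w * (c ^ j)⁻¹ = w := fun j w hw => by
    have : Commute c w := (conj_fix_iff.mp (mem_centralizer_zpowers.mp hw.2)).symm
    rw [(this.pow_left j).eq, mul_inv_cancel_right]
  set vj : ℕ → G := fun j => c ^ j * v * (c ^ j)⁻¹ with hvj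
  have hvjP : ∀ j, vj j ∈ P := fun j => (Subgroup.mem_normalizer_iff.mp (pow_mem hcP j) v).mp hvP
  have hvjsq : ∀ j, vj j * vj j = 1 := fun j => by
    rw [hvj]
    calc c ^ j * v * (c ^ j)⁻¹ * (c ^ j * v * (c ^ j)⁻¹) = c ^ j * (v * v) * (c ^ j)⁻¹ := by group
      _ = 1 := by rw [hvv]; group
  have hvjfix : ∀ (j : ℕ) {w : G}, w ∈ V → vj j * w * (vj j)⁻¹ = w →
      (c ^ j)⁻¹ * w * c ^ j ∈ C := by
    intro j w hw h
    refine hCx.mpr ⟨(hfix _ (hVpow j hw)).mpr ?_, hVpow j hw⟩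
    calc v * ((c ^ j)⁻¹ * w * c ^ j) * v⁻¹ = (c ^ j)⁻¹ * (vj j * w * (vj j)⁻¹) * c ^ j := by
          rw [hvj]; group
      _ = _ := by rw [h]
  have hIvj : ∀ (j : ℕ) {w : G}, w ∈ I → vj j * w * (vj j)⁻¹ = w := by
    intro j w hw
    have h1 : (c ^ j)⁻¹ * w * c ^ j = w := by nth_rw 1 [← hIcj j hw]; group
    calc vj j * w * (vj j)⁻¹ = c ^ j * (v * ((c ^ j)⁻¹ * w * c ^ j) * v⁻¹) * (c ^ j)⁻¹ := by
          rw [hvj]; group
      _ = w := by rw [h1, hCv (hIC hw), hIcj j hw]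
  have hj12 : ∀ {j : ℕ}, (j = 1 ∨ j = 2) → ∀ {w : G}, w ∈ C →
      (c ^ j)⁻¹ * w * c ^ j ∈ C → w ∈ I := by
    intro j hj w hw hw'
    refine hIc hw ?_
    have h := hroot j (hback j hw hw')
    rcases hj with rfl | rfl
    · rwa [pow_one] at h
    · exact centralizer_fix_sq hc h
  -- the group generated by `v₁, v₂` stabilizes `1 ≤ U ⊓ I ≤ U`
  let T : Submonoid G :=
    { carrier := {g | g ∈ Subgroup.centralizer (I : Set G) ∧ ∀ w ∈ U, w⁻¹ * (g * w * g⁻¹) ∈ I}
      one_mem' := ⟨one_mem _, fun w _ => by simp [one_mem]⟩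
      mul_mem' := fun {g h} hg hh => ⟨mul_mem hg.1 hh.1, fun w hw => by
        have e1 : g * h * w * (g * h)⁻¹ = g * w * g⁻¹ * (g * (w⁻¹ * (h * w * h⁻¹)) * g⁻¹) := by
          group
        rw [e1, mem_centralizer_iff_conj.mp hg.1 _ (hh.2 w hw), ← mul_assoc]
        exact mul_mem (hg.2 w hw) (hh.2 w hw)⟩ }
  have hvjT : ∀ {j : ℕ}, (j = 1 ∨ j = 2) → vj j ∈ T := by
    intro j hj
    refine ⟨mem_centralizer_iff_conj.mpr fun w hw => hIvj j hw, fun w hw => ?_⟩
    have hwU : vj j * w * (vj j)⁻¹ ∈ U :=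
      (Subgroup.mem_normalizer_iff.mp (hPU (hvjP j)) w).mp hw
    have hz : w⁻¹ * (vj j * w * (vj j)⁻¹) ∈ U := mul_mem (inv_mem hw) hwU
    refine hj12 hj (hUC hz) (hvjfix j (hUV hz) ?_)
    have hvi : (vj j)⁻¹ = vj j := inv_eq_of_mul_eq_one_right (hvjsq j)
    have hwi : ∀ {a : G}, a ∈ U → a⁻¹ = a := fun ha =>
      inv_eq_of_mul_eq_one_right (heV _ (hUV ha))
    calc vj j * (w⁻¹ * (vj j * w * (vj j)⁻¹)) * (vj j)⁻¹
        = (vj j * w * (vj j)⁻¹)⁻¹ * ((vj j * vj j) * w * (vj j * vj j)⁻¹) := by group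
      _ = vj j * w * (vj j)⁻¹ * w⁻¹ := by
          rw [hvjsq, inv_one, one_mul, mul_one, hwi hwU, hwi hw]
      _ = w⁻¹ * (vj j * w * (vj j)⁻¹) :=
          Subgroup.mem_centralizer_iff.mp (hVc (hUV (inv_mem hw))) _ (hUV hwU)
  set E := Subgroup.closure {vj 1, vj 2} with hE
  have hEP : E ≤ P := (Subgroup.closure_le _).mpr (by rintro _ (rfl | rfl) <;> exact hvjP _)
  have hEgen : ∀ y ∈ E, y ∈ T := by
    intro y hy
    have hy' : y ∈ Submonoid.closure ({vj 1, vj 2} : Set G) := by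
      have hle : ({vj 1, vj 2} : Set G)⁻¹ ⊆ Submonoid.closure ({vj 1, vj 2} : Set G) := by
        intro a ha
        have : a⁻¹⁻¹ = a⁻¹ := by
          rcases ha with h | h <;> rw [h] <;>
            exact inv_eq_of_mul_eq_one_right (hvjsq _)
        rw [inv_inv] at this
        exact Submonoid.subset_closure (this ▸ ha)
      have h := Subgroup.closure_toSubmonoid ({vj 1, vj 2} : Set G)
      have hy2 : y ∈ Submonoid.closure (({vj 1, vj 2} : Set G) ∪ ({vj 1, vj 2} : Set G)⁻¹) := by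
        rw [← h]; exact hy
      exact (Submonoid.closure_le.mpr (Set.union_subset Submonoid.subset_closure hle)) hy2
    refine (Submonoid.closure_le.mpr ?_) hy'
    rintro _ (rfl | rfl)
    · exact hvjT (Or.inl rfl)
    · exact hvjT (Or.inr rfl)
  have hEI : EImg E U := ⟨hP.to_le hEP, hEP.trans hPU, fun b hb => by
    refine mem_centralizer_iff_conj.mpr fun w hw => ?_
    obtain ⟨hb1, hb2⟩ := hEgen b hb
    set z := w⁻¹ * (b * w * b⁻¹) with hz
    have hzI : z ∈ I := hb2 w hw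
    calc b * b * w * (b * b)⁻¹ = b * (b * w * b⁻¹) * b⁻¹ := by group
      _ = b * (w * z) * b⁻¹ := by rw [hz]; group
      _ = (b * w * b⁻¹) * (b * z * b⁻¹) := by group
      _ = w * (z * z) := by rw [mem_centralizer_iff_conj.mp hb1 z hzI, hz]; group
      _ = w := by rw [heV z (hCV (hIC hzI)), mul_one]⟩
  have hIE : I ≤ Subgroup.centralizer (E : Set G) := fun w hw =>
    Subgroup.mem_centralizer_iff.mpr fun y hy =>
      (conj_fix_iff.mp (mem_centralizer_iff_conj.mp (hEgen y hy).1 w hw)).symm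
  have hC1 : (cj c C).relIndex V = 4 := by
    have h := Subgroup.relIndex_map_map_of_injective C V (f := (MulAut.conj c).toMonoidHom)
      (MulAut.conj c).injective
    rw [show V.map (MulAut.conj c).toMonoidHom = V from cj_of_mem_normalizer hcV, hCidx] at h
    exact h
  have hICidx : I.relIndex C ≤ 4 := by
    have h1 : cj c C ⊓ C ≤ I := by
      rintro _ ⟨⟨w, hw, rfl⟩, hw2⟩
      refine hj12 (Or.inl rfl) hw2 ?_
      show (c ^ 1)⁻¹ * (c * w * c⁻¹) * c ^ 1 ∈ C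
      rw [pow_one, show c⁻¹ * (c * w * c⁻¹) * c = w by group]
      exact hw
    calc I.relIndex C ≤ (cj c C ⊓ C).relIndex C :=
          Subgroup.relIndex_le_of_le_left h1 Subgroup.index_ne_zero_of_finite
      _ = (cj c C).relIndex C := Subgroup.inf_relIndex_right _ _
      _ ≤ (cj c C).relIndex V :=
          Subgroup.relIndex_le_of_le_right hCV Subgroup.index_ne_zero_of_finite
      _ = 4 := hC1
  have hnot : ∀ {j : ℕ}, (j = 1 ∨ j = 2) → vj j ∉ Subgroup.centralizer (U : Set G) :=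
    fun {j} hj h => hcU (mem_centralizer_iff_conj.mpr fun w hw => by
      have := hIcj 1 (hj12 hj (hUC hw) (hvjfix j (hUV hw) (mem_centralizer_iff_conj.mp h w hw)))
      rwa [pow_one] at this)
  have h1E : vj 1 ∈ E := Subgroup.subset_closure (Or.inl rfl)
  have h2E : vj 2 ∈ E := Subgroup.subset_closure (Or.inr rfl)
  have hsq := hSq E hEP hEI
  have hEU2 : 2 ≤ cd E U := two_le_cd fun h => hnot (Or.inl rfl) (h h1E)
  have hUE : cd U E ≤ I.relIndex U :=
    Subgroup.relIndex_le_of_le_left hIE Subgroup.index_ne_zero_of_finite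
  have hIU : I.relIndex U ≤ I.relIndex C :=
    Subgroup.relIndex_le_of_le_right hUC Subgroup.index_ne_zero_of_finite
  have hsq' : cd E U ^ 2 ≤ cd U E := hsq
  have hE2 : cd E U = 2 := by nlinarith
  have hIU4 : 4 ≤ I.relIndex U := by rw [hE2] at hsq'; omega
  have hCIU : C ≤ I ⊔ U := by
    have h1 := Subgroup.relIndex_mul_relIndex I (I ⊔ U) C le_sup_left (sup_le hIC hUC)
    have h2 : I.relIndex U ≤ I.relIndex (I ⊔ U) :=
      Subgroup.relIndex_le_of_le_right le_sup_right Subgroup.index_ne_zero_of_finite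
    have h3 : (I ⊔ U).relIndex C ≠ 0 := Subgroup.index_ne_zero_of_finite
    refine Subgroup.relIndex_eq_one.mp ?_
    nlinarith
  set z := vj 1 * vj 2 with hz
  have hzC : z ∈ Subgroup.centralizer (C : Set G) := by
    refine centralizer_mono hCIU ?_
    rw [centralizer_sup]
    refine ⟨mul_mem (hEgen _ h1E).1 (hEgen _ h2E).1, ?_⟩
    have hi : ((Subgroup.centralizer (U : Set G)).subgroupOf E).index = 2 := hE2
    exact (Subgroup.mul_mem_iff_of_index_two hi (a := ⟨_, h1E⟩) (b := ⟨_, h2E⟩)).mpr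
      (iff_of_false (hnot (Or.inl rfl)) (hnot (Or.inr rfl)))
  have hxC : x ∈ Subgroup.centralizer (C : Set G) :=
    mem_centralizer_iff_conj.mpr fun w hw => (hCx.mp hw).1
  set C3 := cj (c ^ 3) C with hC3
  have hC3z : z ∈ Subgroup.centralizer (C3 : Set G) := by
    have hxvx : x * v * x⁻¹ = v := by rw [hxv, mul_inv_cancel_right]
    have hxvj : ∀ j : ℕ, x * vj j * x⁻¹ = (c ^ j)⁻¹ * v * c ^ j := fun j => by
      calc x * vj j * x⁻¹ = (x * c ^ j * x⁻¹) * (x * v * x⁻¹) * (x * c ^ j * x⁻¹)⁻¹ := by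
            rw [hvj]; group
        _ = _ := by rw [hxcj, hxvx, inv_inv]
    have hz3 : (c ^ 3)⁻¹ * z * c ^ 3 = x * z⁻¹ * x⁻¹ := by
      have e1 : x * z⁻¹ * x⁻¹ = (x * vj 2 * x⁻¹) * (x * vj 1 * x⁻¹) := by
        rw [hz, mul_inv_rev, inv_eq_of_mul_eq_one_right (hvjsq 1),
          inv_eq_of_mul_eq_one_right (hvjsq 2)]
        group
      rw [e1, hxvj, hxvj, hz, hvj]
      group
    have h := mul_mem (mul_mem hxC (inv_mem hzC)) (inv_mem hxC)
    rw [← hz3] at h
    refine mem_centralizer_iff_conj.mpr ?_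
    rintro _ ⟨w, hw, rfl⟩
    show z * (c ^ 3 * w * (c ^ 3)⁻¹) * z⁻¹ = c ^ 3 * w * (c ^ 3)⁻¹
    calc z * (c ^ 3 * w * (c ^ 3)⁻¹) * z⁻¹
        = c ^ 3 * ((c ^ 3)⁻¹ * z * c ^ 3 * w * ((c ^ 3)⁻¹ * z * c ^ 3)⁻¹) * (c ^ 3)⁻¹ := by group
      _ = _ := by rw [mem_centralizer_iff_conj.mp h w hw]
  by_cases hA : ∃ w ∈ C, w ∉ I ∧ c ^ 3 * w * (c ^ 3)⁻¹ = w
  · -- a four-section with an automizer of order three
    obtain ⟨w, hw, hwI, hw3⟩ := hA
    apply hwI
    set w₁ := c * w * c⁻¹ with hw₁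
    set w₂ := c * w₁ * c⁻¹ with hw₂
    have hwV : w ∈ V := hCV hw
    have hw₁V : w₁ ∈ V := (Subgroup.mem_normalizer_iff.mp hcV w).mp hwV
    have hw₂V : w₂ ∈ V := (Subgroup.mem_normalizer_iff.mp hcV w₁).mp hw₁V
    have hcm : ∀ {a b : G}, a ∈ V → b ∈ V → a * b = b * a := fun ha hb =>
      Subgroup.mem_centralizer_iff.mp (hVc hb) _ ha
    have hcw₂ : c * w₂ * c⁻¹ = w :=
      calc c * w₂ * c⁻¹ = c ^ 3 * w * (c ^ 3)⁻¹ := by
            simp only [hw₂, hw₁, pow_succ, pow_zero, one_mul, mul_inv_rev, mul_assoc]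
        _ = w := hw3
    have hxw₁ : x * w₁ * x⁻¹ = w₂ :=
      calc x * w₁ * x⁻¹ = (x * c * x⁻¹) * (x * w * x⁻¹) * (x * c * x⁻¹)⁻¹ := by rw [hw₁]; group
        _ = c⁻¹ * w * c := by rw [hxc, (hCx.mp hw).1, inv_inv]
        _ = w₂ := by nth_rw 1 [← hcw₂]; group
    have hxw₂ : x * w₂ * x⁻¹ = w₁ :=
      calc x * w₂ * x⁻¹ = x * (x * w₁ * x⁻¹) * x⁻¹ := by rw [hxw₁]
        _ = (x * x) * w₁ * (x * x)⁻¹ := by group
        _ = w₁ := by rw [hxx]; group
    set s := w * w₁ * w₂ with hs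
    have hsI : s ∈ I := by
      refine hIc (hCx.mpr ⟨?_, mul_mem (mul_mem hwV hw₁V) hw₂V⟩)
        (Subgroup.mem_centralizer_singleton_iff.mpr (conj_fix_iff.mp ?_).symm)
      · calc x * s * x⁻¹ = (x * w * x⁻¹) * (x * w₁ * x⁻¹) * (x * w₂ * x⁻¹) := by rw [hs]; group
          _ = w * (w₂ * w₁) := by rw [(hCx.mp hw).1, hxw₁, hxw₂, mul_assoc]
          _ = s := by rw [hcm hw₂V hw₁V, ← mul_assoc]
      · calc c * s * c⁻¹ = (c * w * c⁻¹) * (c * w₁ * c⁻¹) * (c * w₂ * c⁻¹) := by rw [hs]; group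
          _ = w₁ * w₂ * w := by rw [hcw₂, ← hw₁, ← hw₂]
          _ = w * (w₁ * w₂) := (hcm hwV (mul_mem hw₁V hw₂V)).symm
          _ = s := (mul_assoc _ _ _).symm
    set A₁ := I ⊔ Subgroup.zpowers w with hA₁
    set N := A₁ ⊔ Subgroup.zpowers w₁ with hN
    have hNV : N ≤ V := sup_le (sup_le (hIC.trans hCV) (Subgroup.zpowers_le.mpr hwV))
      (Subgroup.zpowers_le.mpr hw₁V)
    have hIN : I ≤ N := le_sup_left.trans le_sup_left
    have hwN : w ∈ N := Subgroup.mem_sup_left (Subgroup.mem_sup_right (Subgroup.mem_zpowers w))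
    have hw₁N : w₁ ∈ N := Subgroup.mem_sup_right (Subgroup.mem_zpowers w₁)
    have hw₂N : w₂ ∈ N := by
      have : w₂ = w₁⁻¹ * (w⁻¹ * s) := by rw [hs]; group
      rw [this]
      exact mul_mem (inv_mem hw₁N) (mul_mem (inv_mem hwN) (hIN hsI))
    have hmap : ∀ g : G, g ∈ Subgroup.centralizer (I : Set G) → g * w * g⁻¹ ∈ N →
        g * w₁ * g⁻¹ ∈ N → g ∈ Subgroup.normalizer (N : Set G) := by
      intro g h1 h2 h3
      refine mem_normalizer_of_cj (Subgroup.eq_of_le_of_card_ge ?_ (card_cj _ _).ge)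
      rw [hN, hA₁, Cfsg.Agent.S4022.cj_sup, Cfsg.Agent.S4022.cj_sup]
      refine sup_le (sup_le ?_ ?_) ?_
      · rintro _ ⟨i, hi, rfl⟩
        exact hIN (by show g * i * g⁻¹ ∈ I; rw [mem_centralizer_iff_conj.mp h1 i hi]; exact hi)
      · rw [cj, MonoidHom.map_zpowers, Subgroup.zpowers_le]; exact h2
      · rw [cj, MonoidHom.map_zpowers, Subgroup.zpowers_le]; exact h3
    have hxI : x ∈ Subgroup.centralizer (I : Set G) := centralizer_mono hIC hxC
    have hcI : c ∈ Subgroup.centralizer (I : Set G) := mem_centralizer_iff_conj.mpr fun i hi =>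
      mem_centralizer_zpowers.mp hi.2
    have hidxN : I.relIndex N ≤ 4 := by
      have hle : ∀ {X : Subgroup G} {t : G}, X ≤ V → t ∈ V →
          X.relIndex (X ⊔ Subgroup.zpowers t) ≤ 2 := by
        intro X t hX ht
        rw [Coprime.relIndex_sup_of_le_normalizer (Subgroup.zpowers_le.mpr
          (Subgroup.centralizer_le_normalizer _ (centralizer_mono hX (hVc ht))))]
        refine (Nat.le_of_dvd Nat.card_pos (Subgroup.relIndex_dvd_card _ _)).trans ?_
        rw [Nat.card_zpowers]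
        exact orderOf_le_of_pow_eq_one two_pos (by rw [pow_two, heV t ht])
      rw [← Subgroup.relIndex_mul_relIndex I A₁ N le_sup_left le_sup_left]
      exact Nat.mul_le_mul (hle (hIC.trans hCV) hwV)
        (hle (sup_le (hIC.trans hCV) (Subgroup.zpowers_le.mpr hwV)) hw₁V)
    have hcN : c ∈ Subgroup.centralizer (N : Set G) :=
      pair hS4 hIN (hV.to_le hNV) (hNV.trans (hVc.trans ((centralizer_mono (hIC.trans hCV)).trans
        (Subgroup.centralizer_le_normalizer _)))) hidxN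
        (hmap x hxI (by rw [(hCx.mp hw).1]; exact hwN) (by rw [hxw₁]; exact hw₂N))
        (hmap c hcI hw₁N hw₂N) hxI hcI (fun t _ => by rw [hxc]; group) hc
        (by rw [pow_orderOf_eq_one]; exact one_mem _)
    exact hIc hw (Subgroup.mem_centralizer_singleton_iff.mpr
      (conj_fix_iff.mp (mem_centralizer_iff_conj.mp hcN w hwN)).symm)
  · push Not at hA
    have h1 : C3 ⊓ C ≤ I := by
      rintro _ ⟨⟨w, hw, rfl⟩, hw2⟩
      by_contra hI'
      change c ^ 3 * w * (c ^ 3)⁻¹ ∉ I at hI'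
      change c ^ 3 * w * (c ^ 3)⁻¹ ∈ C at hw2
      refine hA _ hw2 hI' (conj_fix_iff.mpr (Subgroup.mem_centralizer_singleton_iff.mp
        (hroot 3 (hback 3 hw2 ?_))).symm)
      rw [show (c ^ 3)⁻¹ * (c ^ 3 * w * (c ^ 3)⁻¹) * c ^ 3 = w by group]
      exact hw
    have h2 : 4 ≤ C3.relIndex C := by
      rw [← Subgroup.inf_relIndex_right]
      exact (hIU4.trans hIU).trans
        (Subgroup.relIndex_le_of_le_left h1 Subgroup.index_ne_zero_of_finite)
    have hC3V : C3.relIndex V = 4 := by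
      have h := Subgroup.relIndex_map_map_of_injective C V (f := (MulAut.conj (c ^ 3)).toMonoidHom)
        (MulAut.conj (c ^ 3)).injective
      rw [show V.map (MulAut.conj (c ^ 3)).toMonoidHom = V from
        cj_of_mem_normalizer (pow_mem hcV 3), hCidx] at h
      exact h
    have hC3le : C3 ≤ V :=
      (cj_mono _ hCV).trans (cj_of_mem_normalizer (pow_mem hcV 3)).le
    have hzV : z ∈ Subgroup.centralizer (V : Set G) := by
      refine centralizer_mono (A := V) (B := C3 ⊔ C) ?_ (by rw [centralizer_sup]; exact ⟨hC3z, hzC⟩)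
      have h3 := Subgroup.relIndex_mul_relIndex C3 (C3 ⊔ C) V le_sup_left (sup_le hC3le hCV)
      have h4 : C3.relIndex C ≤ C3.relIndex (C3 ⊔ C) :=
        Subgroup.relIndex_le_of_le_right le_sup_right Subgroup.index_ne_zero_of_finite
      have h5 : (C3 ⊔ C).relIndex V ≠ 0 := Subgroup.index_ne_zero_of_finite
      refine Subgroup.relIndex_eq_one.mp ?_
      nlinarith
    refine hcU (mem_centralizer_iff_conj.mpr fun w hw => ?_)
    set t := c * w * c⁻¹ with ht
    have htV : t ∈ V := (Subgroup.mem_normalizer_iff.mp hcV w).mp (hUV hw)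
    have h1t : vj 1 * t * (vj 1)⁻¹ = t :=
      calc vj 1 * t * (vj 1)⁻¹ = c * (v * w * v⁻¹) * c⁻¹ := by rw [hvj, ht]; group
        _ = t := by rw [hCv (hUC hw)]
    have h2t : vj 2 * t * (vj 2)⁻¹ = t :=
      calc vj 2 * t * (vj 2)⁻¹ = (vj 1)⁻¹ * (z * t * z⁻¹) * vj 1 := by rw [hz]; group
        _ = (vj 1)⁻¹ * (vj 1 * t * (vj 1)⁻¹) * vj 1 := by
            rw [mem_centralizer_iff_conj.mp hzV t htV, h1t]
        _ = t := by group
    have h3 := hvjfix 2 htV h2t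
    have h4 : (c ^ 1)⁻¹ * w * c ^ 1 ∈ C := by
      rw [show (c ^ 1)⁻¹ * w * c ^ 1 = (c ^ 2)⁻¹ * t * c ^ 2 by rw [ht]; group]
      exact h3
    have := hIcj 1 (hj12 (Or.inl rfl) (hUC hw) h4)
    rwa [pow_one] at this

end CfsgLib.PushUp
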