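import Cfsg.Agent.Lib.PushUp.Basic
import Cfsg.Agent.Lib.PSolvable.Core
import Cfsg.Agent.Lib.IsolatedMin.Basic

/-!
The squares inequality for reduced modules of solvable `S₄`-free groups, and consequences for
normal closures.
-/

set_option autoImplicit false
set_option linter.style.haveILetI false

namespace CfsgLib.PushUp

open Cfsg.Agent.S4022 (cj cj_mul card_cj)
open Cfsg.Agent.S4270 (cj_cancel mem_normalizer_of_cj cj_of_mem_normalizer)

variable {G : Type*} [Group G] [Finite G]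

theorem odd_fitting (h : Cfsg.pCore 2 G = ⊥) : Odd (Nat.card (Cfsg.fittingSubgroup G)) := by
  classical
  haveI : Fact (Nat.Prime 2) := ⟨Nat.prime_two⟩
  haveI := Fitting.fittingSubgroup_normal (G := G)
  set F := Cfsg.fittingSubgroup G with hF
  haveI : Group.IsNilpotent F := Fitting.fittingSubgroup_isNilpotent
  let P : Sylow 2 F := default
  haveI hPn : (P : Subgroup F).Normal :=
    (((Group.isNilpotent_of_finite_tfae (G := F)).out 0 3 : Group.IsNilpotent F ↔ ∀ (r : ℕ) (_ : Fact r.Prime) (R : Sylow r F), (R : Subgroup F).Normal)).mp ‹Group.IsNilpotent F› 2 inferInstance P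
  haveI := Sylow.characteristic_of_normal P hPn
  have hP : (P : Subgroup F).map F.subtype ≤ Cfsg.pCore 2 G :=
    Fitting.le_pCore (PSolvable.normal_map_of_characteristic F _) (P.2.map _)
  rw [h, le_bot_iff, Subgroup.map_eq_bot_iff_of_injective _ F.subtype_injective] at hP
  rw [← Nat.not_even_iff_odd, even_iff_two_dvd]
  intro hd
  exact P.ne_bot_of_dvd_card hd hP

theorem pCore_quotient_eq_bot {N : Subgroup G} [N.Normal]
    (h : ∀ T : Subgroup G, T.Normal → N ≤ T →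
      IsPGroup 2 (T.map (QuotientGroup.mk' N)) → T ≤ N) : Cfsg.pCore 2 (G ⧸ N) = ⊥ := by
  haveI := Fitting.pCore_normal (G := G ⧸ N) 2
  set π := QuotientGroup.mk' N with hπ
  have h1 := h ((Cfsg.pCore 2 (G ⧸ N)).comap π) inferInstance
    (fun x hx => by
      rw [Subgroup.mem_comap, show π x = 1 from (QuotientGroup.eq_one_iff x).mpr hx]
      exact one_mem _)
    (by
      rw [Subgroup.map_comap_eq_self_of_surjective (QuotientGroup.mk'_surjective N)]
      exact Fitting.pCore_isPGroup 2)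
  rw [eq_bot_iff]
  intro x hx
  obtain ⟨g, rfl⟩ := QuotientGroup.mk'_surjective N x
  exact Subgroup.mem_bot.mpr ((QuotientGroup.eq_one_iff g).mpr (h1 hx))

/-- A `2`-group whose image modulo the kernel centralizes the Fitting subgroup, of odd order. -/
theorem image_eq_bot [Group.IsSolvable G] (h : Cfsg.pCore 2 G = ⊥) {B : Subgroup G}
    (hB : IsPGroup 2 B) (hc : Cfsg.fittingSubgroup G ≤ Subgroup.centralizer (B : Set G)) :
    B = ⊥ := by
  haveI : Fact (Nat.Prime 2) := ⟨Nat.prime_two⟩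
  refine eq_bot_iff.mpr fun x hx => ?_
  exact Subgroup.mem_bot.mpr (PSolvable.eq_one_of_mem_of_mem hB
    (Nat.coprime_two_right.mpr (odd_fitting h)) hx
    (PSolvable.centralizer_fittingSubgroup_le (Subgroup.le_centralizer_iff.mp hc hx)))

theorem odd_lift {H : Type*} [Group H] (π : G →* H) (g : G) {d : H} (hg : π g = d)
    (hd : Odd (orderOf d)) :
    ∃ k m : ℕ, Odd (orderOf (g ^ 2 ^ k)) ∧ (π (g ^ 2 ^ k)) ^ m = d := by
  obtain ⟨k, hk⟩ := exists_odd_pow g
  rw [← hg] at hd ⊢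
  obtain ⟨m, hm⟩ := exists_pow_eq_self_of_coprime (x := π g) (n := 2 ^ k)
    ((Nat.coprime_two_left.mpr hd).pow_left k)
  exact ⟨k, m, hk, by rw [map_pow, hm]⟩

/-- Reduced modules of solvable `S₄`-free groups satisfy the squares inequality. -/
theorem sq_of_reduced [Group.IsSolvable G] (hS4 : ¬ Cfsg.Involves (Equiv.Perm (Fin 4)) G)
    {U : Subgroup G} [U.Normal] (hU : IsPGroup 2 U) (hUc : U ≤ Subgroup.centralizer (U : Set G))
    (hred : Cfsg.pCore 2 (G ⧸ Subgroup.centralizer (U : Set G)) = ⊥) :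
    ∀ B : Subgroup G, EImg B U → Sq B U := by
  classical
  haveI : Fact (Nat.Prime 2) := ⟨Nat.prime_two⟩
  suffices ∀ n, ∀ B : Subgroup G, Nat.card B = n → EImg B U → Sq B U from
    fun B hB => this _ B rfl hB
  intro n
  induction n using Nat.strong_induction_on with
  | _ n ih =>
  intro B hn hB
  set C := Subgroup.centralizer (U : Set G) with hC
  by_cases hB1 : B ≤ C
  · rw [Sq, cd_eq_one_iff.mpr hB1, one_pow]; exact cd_pos _ _
  set π := QuotientGroup.mk' C with hπ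
  have hπs : Function.Surjective π := QuotientGroup.mk'_surjective C
  have hπ1 : ∀ {g : G}, π g = 1 ↔ g ∈ C := fun {g} => QuotientGroup.eq_one_iff g
  haveI : Group.IsSolvable (G ⧸ C) := solvable_of_surjective hπs
  haveI : (Cfsg.fittingSubgroup (G ⧸ C)).Normal := Fitting.fittingSubgroup_normal
  have hBe : ∀ b ∈ B.map π, b * b = 1 := by
    rintro _ ⟨b, hb, rfl⟩
    rw [← map_mul]; exact hπ1.mpr (hB.sq_mem b hb)
  obtain ⟨Bb, hBb, hidx, xb, ⟨x, hxB, rfl⟩, hx2, db, hdF, hd1, hinv, hcd⟩ :=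
    exists_inverted hBe Subgroup.le_normalizer_of_normal (odd_fitting hred) (fun hc => hB1 (by
      have h := image_eq_bot hred (hB.isPGroup.map π) hc
      rw [Subgroup.map_eq_bot_iff, QuotientGroup.ker_mk'] at h
      exact h))
  have hdodd : Odd (orderOf db) :=
    (odd_fitting hred).of_dvd_nat ((Cfsg.fittingSubgroup (G ⧸ C)).orderOf_dvd_natCard hdF)
  set B₂ := Bb.comap π ⊓ B with hB₂
  have hidx2 : B₂.relIndex B = 2 := by
    rw [hB₂, Subgroup.inf_relIndex_right, Subgroup.relIndex_comap, hidx]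
  have hB₂B : B₂ ≤ B := inf_le_right
  have hlt : Nat.card B₂ < n := by
    have h := Subgroup.relIndex_mul_relIndex ⊥ B₂ B bot_le hB₂B
    rw [Subgroup.relIndex_bot_left, Subgroup.relIndex_bot_left, hidx2, hn] at h
    have := Nat.card_pos (α := B₂)
    omega
  have hBn : B ≤ Subgroup.normalizer (U : Set G) := Subgroup.le_normalizer_of_normal
  have hE2 : EImg B₂ U := hB.mono hB₂B le_rfl (hB₂B.trans hBn)
  have hih := ih _ hlt B₂ rfl hE2
  set W := Subgroup.centralizer (B₂ : Set G) ⊓ U with hW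
  have hWU : W ≤ U := inf_le_right
  suffices h4 : 4 ≤ cd W B by
    have h1 := cd_mul (V := U) hB₂B
    have h2 : cd B U ≤ 2 * cd B₂ U := relIndex_two hidx2
    rw [Sq] at hih ⊢
    calc cd B U ^ 2 ≤ (2 * cd B₂ U) ^ 2 := Nat.pow_le_pow_left h2 2
      _ = 4 * cd B₂ U ^ 2 := by ring
      _ ≤ cd W B * cd U B₂ := Nat.mul_le_mul h4 hih
      _ = cd U B := h1
  by_contra h4
  have hx : Subgroup.zpowers x ≤ B := Subgroup.zpowers_le.mpr hxB
  have hWx : cd W (Subgroup.zpowers x) ≤ 2 := by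
    by_contra h
    exact h4 ((four_le_cd (hU.to_le hWU) h).trans (cd_mono_left hx))
  obtain ⟨d0, hd0⟩ := hπs db
  obtain ⟨k, m, hkodd, hm⟩ := odd_lift π d0 hd0 hdodd
  set d := d0 ^ 2 ^ k with hd
  have hπd : π d = db ^ 2 ^ k := by rw [hd, map_pow, hd0]
  have hinv' : π x * π d * (π x)⁻¹ = (π d)⁻¹ := by rw [hπd, ← conj_pow, hinv, inv_pow]
  have hdnormU : ∀ g : G, g ∈ Subgroup.normalizer (U : Set G) :=
    fun g => Subgroup.le_normalizer_of_normal (Subgroup.mem_top g)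
  have hcomm : ∀ b ∈ B₂, ∀ v ∈ U, b * (d * v * d⁻¹) * b⁻¹ = d * (b * v * b⁻¹) * d⁻¹ := by
    intro b hb v hv
    have hbd : π b * π d = π d * π b := by
      rw [hπd]; exact (Commute.pow_right (hcd _ hb.1) _).eq
    have h1 : (d * b)⁻¹ * (b * d) ∈ C := by
      rw [← hπ1, map_mul, map_inv, map_mul, map_mul, hbd, inv_mul_cancel]
    calc b * (d * v * d⁻¹) * b⁻¹ = (d * b) * (((d * b)⁻¹ * (b * d)) * v *
          ((d * b)⁻¹ * (b * d))⁻¹) * (d * b)⁻¹ := by group
      _ = (d * b) * v * (d * b)⁻¹ := by rw [mem_centralizer_iff_conj.mp h1 v hv]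
      _ = d * (b * v * b⁻¹) * d⁻¹ := by group
  have hWd : ∀ v ∈ W, d * v * d⁻¹ ∈ W := fun v hv =>
    ⟨Subgroup.mem_centralizer_iff.mpr fun b hb => conj_fix_iff.mp (by
      rw [hcomm b hb v hv.2, mem_centralizer_iff_conj.mp
        (Subgroup.le_centralizer_iff.mp (inf_le_left : W ≤ _) hb) v hv]) |>.symm,
      (inferInstance : U.Normal).conj_mem v hv.2 d⟩
  have hdW : d ∈ Subgroup.normalizer (W : Set G) := mem_normalizer_of_cj
    (Subgroup.eq_of_le_of_card_ge (by rintro _ ⟨v, hv, rfl⟩; exact hWd v hv) (card_cj _ _).ge)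
  have hxW : x ∈ Subgroup.normalizer (W : Set G) := mem_normalizer_of_cj
    (Subgroup.eq_of_le_of_card_ge (by
      rintro _ ⟨v, hv, rfl⟩
      refine ⟨Subgroup.mem_centralizer_iff.mpr fun b hb => ?_,
        (inferInstance : U.Normal).conj_mem v hv.2 x⟩
      have h1 : x⁻¹ * b⁻¹ * x * b ∈ C := by
        simpa using hB.comm (inv_mem hxB) (inv_mem (hB₂B hb))
      have h2 : b * v * b⁻¹ = v := mem_centralizer_iff_conj.mp
        (Subgroup.le_centralizer_iff.mp (inf_le_left : W ≤ _) hb) v hv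
      show b * (x * v * x⁻¹) = x * v * x⁻¹ * b
      refine (conj_fix_iff.mp ?_).symm
      calc b * (x * v * x⁻¹) * b⁻¹
          = b * x * (x⁻¹ * b⁻¹ * x * b * v * (x⁻¹ * b⁻¹ * x * b)⁻¹) * (b * x)⁻¹ := by
            rw [mem_centralizer_iff_conj.mp h1 v hv.2]; group
        _ = x * (b * v * b⁻¹) * x⁻¹ := by group
        _ = x * v * x⁻¹ := by rw [h2]) (card_cj _ _).ge)
  set D := W ⊓ Subgroup.centralizer (Subgroup.zpowers x : Set G) ⊓
    Subgroup.centralizer (Subgroup.zpowers (d * x * d⁻¹) : Set G) with hD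
  have hidxD : D.relIndex W ≤ 4 := by
    have e : cj d (Subgroup.zpowers x) = Subgroup.zpowers (d * x * d⁻¹) :=
      MonoidHom.map_zpowers _ x
    have h2 : cd W (Subgroup.zpowers (d * x * d⁻¹)) = cd W (Subgroup.zpowers x) := by
      conv_lhs => rw [← cj_of_mem_normalizer hdW, ← e, cd_cj]
    rw [hD, inf_assoc, Subgroup.inf_relIndex_left]
    refine le_trans Subgroup.relIndex_inf_le ?_
    exact (Nat.mul_le_mul hWx (h2.le.trans hWx))
  have hdD : d ∈ Subgroup.centralizer (D : Set G) := by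
    refine mem_centralizer_iff_conj.mpr fun v hv => ?_
    have hv1 : x * v * x⁻¹ = v := conj_fix_iff.mpr
      (Subgroup.mem_centralizer_iff.mp hv.1.2 x (Subgroup.mem_zpowers x)).symm
    have hv2 : d * x * d⁻¹ * v * (d * x * d⁻¹)⁻¹ = v := conj_fix_iff.mpr
      (Subgroup.mem_centralizer_iff.mp hv.2 _ (Subgroup.mem_zpowers _)).symm
    have h1 : x * (d * x * d⁻¹) * (d ^ 2) ∈ C := by
      rw [← hπ1, map_mul, map_mul, map_mul, map_mul, map_inv, map_pow]
      have hxx : π x * π x = 1 := by rw [← map_mul]; exact hπ1.mpr (hB.sq_mem x hxB)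
      calc π x * (π d * π x * (π d)⁻¹) * π d ^ 2 = π x * π d * (π x)⁻¹ * (π x * π x) * π d := by
            group
        _ = 1 := by rw [hinv', hxx]; group
    have hd2 : d ^ 2 * v * (d ^ 2)⁻¹ = v := by
      have h2 := mem_centralizer_iff_conj.mp h1 v hv.1.1.2
      calc d ^ 2 * v * (d ^ 2)⁻¹ = (x * (d * x * d⁻¹))⁻¹ *
            (x * (d * x * d⁻¹) * d ^ 2 * v * (x * (d * x * d⁻¹) * d ^ 2)⁻¹) *
            (x * (d * x * d⁻¹)) := by group
        _ = (d * x * d⁻¹)⁻¹ * (x⁻¹ * v * x) * (d * x * d⁻¹) := by rw [h2]; group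
        _ = v := by
          rw [show x⁻¹ * v * x = v by nth_rw 1 [← hv1]; group]
          nth_rw 1 [← hv2]; group
    have h3 := centralizer_fix_sq (g := d) (z := v) hkodd
      (Subgroup.mem_centralizer_singleton_iff.mpr (conj_fix_iff.mp hd2).symm)
    exact conj_fix_iff.mpr (Subgroup.mem_centralizer_singleton_iff.mp h3).symm
  have hdcW : d ∈ Subgroup.centralizer (W : Set G) := by
    refine pair hS4 (N := W) (D := D) (inf_le_left.trans inf_le_left) (hU.to_le hWU) ?_ hidxD hxW hdW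
      (mem_centralizer_iff_conj.mpr fun v hv => conj_fix_iff.mpr
        (Subgroup.mem_centralizer_iff.mp hv.1.2 x (Subgroup.mem_zpowers x)).symm) hdD ?_ hkodd
      (by rw [pow_orderOf_eq_one]; exact one_mem _)
    · exact (le_trans (Subgroup.le_centralizer_iff.mp
        ((inf_le_left.trans inf_le_left : D ≤ W).trans (hWU.trans (hUc.trans (centralizer_mono hWU)))))
        (Subgroup.centralizer_le_normalizer _))
    · intro v hv
      have h1 : d * (x * d * x⁻¹) ∈ C := by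
        rw [← hπ1, map_mul, map_mul, map_mul, map_inv, hinv', mul_inv_cancel]
      calc x * d * x⁻¹ * v * (x * d * x⁻¹)⁻¹ = d⁻¹ * (d * (x * d * x⁻¹) * v *
            (d * (x * d * x⁻¹))⁻¹) * d := by group
        _ = d⁻¹ * v * d := by rw [mem_centralizer_iff_conj.mp h1 v (hWU hv)]
  have hdC : d ∈ C := by
    by_contra hdC
    obtain ⟨u₀, hu₀, hu₀'⟩ : ∃ u₀ ∈ U, u₀⁻¹ * (d * u₀ * d⁻¹) ≠ 1 := by
      by_contra! hall
      exact hdC (mem_centralizer_iff_conj.mpr fun v hv => (inv_mul_eq_one.mp (hall v hv)).symm)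
    have hc : ∀ {a b : G}, a ∈ U → b ∈ U → a * b = b * a := fun ha hb =>
      Subgroup.mem_centralizer_iff.mp (hUc hb) _ ha
    have hconjU : ∀ {a : G}, a ∈ U → d * a * d⁻¹ ∈ U :=
      fun ha => (inferInstance : U.Normal).conj_mem _ ha d
    let Z : Subgroup G :=
      { carrier := {z | ∃ v ∈ U, v⁻¹ * (d * v * d⁻¹) = z}
        one_mem' := ⟨1, one_mem _, by group⟩
        mul_mem' := by
          rintro _ _ ⟨a, ha, rfl⟩ ⟨b, hb, rfl⟩
          refine ⟨a * b, mul_mem ha hb, ?_⟩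
          calc (a * b)⁻¹ * (d * (a * b) * d⁻¹)
              = b⁻¹ * (a⁻¹ * (d * a * d⁻¹)) * (d * b * d⁻¹) := by group
            _ = (a⁻¹ * (d * a * d⁻¹)) * b⁻¹ * (d * b * d⁻¹) := by
              rw [hc (mul_mem (inv_mem ha) (hconjU ha)) (inv_mem hb)]
            _ = _ := mul_assoc _ _ _
        inv_mem' := by
          rintro _ ⟨a, ha, rfl⟩
          refine ⟨a⁻¹, inv_mem ha, ?_⟩
          rw [hc (inv_mem (inv_mem ha)) (hconjU (inv_mem ha))]
          group }
    have hZU : Z ≤ U := by rintro _ ⟨a, ha, rfl⟩; exact mul_mem (inv_mem ha) (hconjU ha)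
    have hBZ : B₂ ≤ Subgroup.normalizer (Z : Set G) := fun b hb => mem_normalizer_of_cj
      (Subgroup.eq_of_le_of_card_ge (by
        rintro _ ⟨_, ⟨a, ha, rfl⟩, rfl⟩
        refine ⟨b * a * b⁻¹, (inferInstance : U.Normal).conj_mem a ha b, ?_⟩
        show _ = b * (a⁻¹ * (d * a * d⁻¹)) * b⁻¹
        rw [← hcomm b hb a ha]
        group) (card_cj _ _).ge)
    set P := B₂ ⊔ Z with hP
    have hPp : IsPGroup 2 P := IsPGroup.to_sup_of_normal_right' hE2.isPGroup (hU.to_le hZU) hBZ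
    have hZP : Z ≤ P := le_sup_right
    haveI : (Z.subgroupOf P).Normal :=
      Subgroup.normal_subgroupOf_of_le_normalizer (sup_le hBZ Subgroup.le_normalizer)
    obtain ⟨⟨z, hzP⟩, ⟨hzZ, hzc⟩, hz1⟩ := (Subgroup.bot_or_exists_ne_one _).resolve_left
      (IsolatedMin.inf_center_ne_bot hPp (Z.subgroupOf P) (by
        rw [Ne, Subgroup.subgroupOf_eq_bot, disjoint_iff, inf_eq_left.mpr hZP]
        exact fun e => hu₀' (Subgroup.mem_bot.mp (e ▸ ⟨u₀, hu₀, rfl⟩))))
    have hzW : z ∈ W := ⟨Subgroup.mem_centralizer_iff.mpr fun b hb =>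
      congrArg Subtype.val (Subgroup.mem_center_iff.mp hzc ⟨b, Subgroup.mem_sup_left hb⟩), hZU hzZ⟩
    obtain ⟨a, ha, hza⟩ := hzZ
    change a⁻¹ * (d * a * d⁻¹) = z at hza
    have h := fix_of_stabilizes hU hkodd (v := a) (by rw [hza]; exact hZU ⟨a, ha, hza⟩)
      (by rw [hza]; exact mem_centralizer_iff_conj.mp hdcW z hzW)
      (by rw [pow_orderOf_eq_one]; group)
    rw [h, inv_mul_cancel] at hza
    exact hz1 (Subtype.ext hza.symm)
  apply hd1
  rw [← hm, hπ1.mpr hdC, one_pow]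

/-- In a solvable `S₄`-free group of characteristic `2`, a normal elementary abelian subgroup of a
Sylow `2`-subgroup with the squares inequality lies in the `2`-core. -/
theorem le_pCore_of_sq [Group.IsSolvable G] (hS4 : ¬ Cfsg.Involves (Equiv.Perm (Fin 4)) G)
    (hchar : Subgroup.centralizer (Cfsg.pCore 2 G : Set G) ≤ Cfsg.pCore 2 G) (S : Sylow 2 G)
    {U : Subgroup G} (hUS : U ≤ (S : Subgroup G))
    (hSU : (S : Subgroup G) ≤ Subgroup.normalizer (U : Set G))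
    (he : ∀ u ∈ U, u * u = 1) (hUc : U ≤ Subgroup.centralizer (U : Set G))
    (hSq : ∀ B ≤ (S : Subgroup G), EImg B U → Sq B U) : U ≤ Cfsg.pCore 2 G := by
  classical
  haveI : Fact (Nat.Prime 2) := ⟨Nat.prime_two⟩
  set Q := Cfsg.pCore 2 G with hQ
  haveI : Q.Normal := Fitting.pCore_normal 2
  have hQp : IsPGroup 2 Q := Fitting.pCore_isPGroup 2
  have hQS : Q ≤ (S : Subgroup G) := fun q hq => Fitting.mem_pCore_iff_forall_sylow.mp hq S
  by_contra hUQ
  set π := QuotientGroup.mk' Q with hπ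
  have hπ1 : ∀ {g : G}, π g = 1 ↔ g ∈ Q := fun {g} => QuotientGroup.eq_one_iff g
  haveI : Group.IsSolvable (G ⧸ Q) := solvable_of_surjective (QuotientGroup.mk'_surjective Q)
  haveI : (Cfsg.fittingSubgroup (G ⧸ Q)).Normal := Fitting.fittingSubgroup_normal
  have hred : Cfsg.pCore 2 (G ⧸ Q) = ⊥ := pCore_quotient_eq_bot fun T hT hQT hTp => by
    refine Fitting.le_pCore hT (((hTp.comap_of_ker_isPGroup π ?_).to_le (Subgroup.le_comap_map π T)))
    rw [hπ, QuotientGroup.ker_mk']; exact hQp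
  obtain ⟨Ub, hUb, hidx, ub, ⟨u, huU, rfl⟩, hu2, db, hdF, hd1, hinv, hcd⟩ :=
    exists_inverted (B := U.map π) (by rintro _ ⟨v, hv, rfl⟩; rw [← map_mul, he v hv, map_one])
      Subgroup.le_normalizer_of_normal (odd_fitting hred) (fun hc => hUQ (by
        have h := image_eq_bot hred ((S.2.to_le hUS).map π) hc
        rw [Subgroup.map_eq_bot_iff, QuotientGroup.ker_mk'] at h
        exact h))
  have hdodd : Odd (orderOf db) :=
    (odd_fitting hred).of_dvd_nat ((Cfsg.fittingSubgroup (G ⧸ Q)).orderOf_dvd_natCard hdF)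
  obtain ⟨d, hd⟩ := QuotientGroup.mk'_surjective Q db
  rw [← hπ] at hd
  set U₁ := Ub.comap π ⊓ U with hU₁
  have hU₁U : U₁ ≤ U := inf_le_right
  have hidx1 : U₁.relIndex U = 2 := by
    rw [hU₁, Subgroup.inf_relIndex_right, Subgroup.relIndex_comap, hidx]
  have hcomU : ∀ {a b : G}, a ∈ U → b ∈ U → a * b = b * a := fun ha hb =>
    Subgroup.mem_centralizer_iff.mp (hUc hb) _ ha
  have hXU₁ : ∀ {z : G}, z ∈ U → z ∈ Q → z ∈ U₁ := fun hz hzQ =>
    ⟨show π _ ∈ Ub by rw [hπ1.mpr hzQ]; exact one_mem _, hz⟩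
  have hcong : ∀ {e v : G}, v ∈ U₁ → (e = d ∨ e = d⁻¹) → π (e * v * e⁻¹) = π v := by
    intro e v hv he'
    have hc : Commute (π v) db := hcd _ hv.1
    rcases he' with rfl | rfl
    · rw [map_mul, map_mul, map_inv, hd, hc.symm.eq, mul_inv_cancel_right]
    · simp only [map_mul, map_inv, hd, inv_inv]
      rw [hc.inv_right.symm.eq, inv_mul_cancel_right]
  have hconjS : ∀ {e : G}, (e = d ∨ e = d⁻¹) → cj e U₁ ≤ (S : Subgroup G) := by
    rintro e he' _ ⟨v, hv, rfl⟩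
    show e * v * e⁻¹ ∈ _
    rw [show e * v * e⁻¹ = v * (v⁻¹ * (e * v * e⁻¹)) by group]
    refine mul_mem (hUS hv.2) (hQS (hπ1.mp ?_))
    rw [map_mul, map_inv, hcong hv he', inv_mul_cancel]
  have hEB : ∀ {e : G}, (e = d ∨ e = d⁻¹) → EImg (cj e U₁) U := fun {e} he' =>
    ⟨S.2.to_le (hconjS he'), (hconjS he').trans hSU, by
      rintro _ ⟨v, hv, rfl⟩
      rw [← map_mul, he v hv.2, map_one]; exact one_mem _⟩
  set B := cj d U₁ with hBdef
  set B' := cj d⁻¹ U₁ with hB'def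
  set p := cd U₁ B with hp
  set q := cd B U₁ with hq
  have hq' : cd U₁ B' = q := by rw [hq, ← cd_cj d⁻¹ B U₁, hBdef, cj_cancel]
  have hp' : cd B' U₁ = p := by rw [hp, ← cd_cj d⁻¹ U₁ B, hBdef, cj_cancel]
  have key : ∀ {e : G}, (e = d ∨ e = d⁻¹) → cd (cj e U₁) U₁ ^ 2 ≤ cd (cj e U₁) U ^ 2 ∧
      cd (cj e U₁) U ^ 2 ≤ cd U (cj e U₁) ∧ cd U (cj e U₁) ≤ 2 * cd U₁ (cj e U₁) :=
    fun {e} he' => ⟨Nat.pow_le_pow_left (cd_mono_left hU₁U) 2,
      hSq _ (hconjS he') (hEB he'), relIndex_two hidx1⟩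
  obtain ⟨k1, k2, k3⟩ := key (e := d) (Or.inl rfl)
  obtain ⟨l1, l2, l3⟩ := key (e := d⁻¹) (Or.inr rfl)
  rw [← hBdef] at k1 k2 k3
  rw [← hB'def, hp'] at l1
  rw [← hB'def] at l2
  rw [← hB'def, hq'] at l3
  rw [← hq] at k1
  rw [← hp] at k3
  have hp0 : 0 < p := cd_pos _ _
  have hq0 : 0 < q := cd_pos _ _
  have hqp : q ^ 2 ≤ 2 * p := k1.trans (k2.trans k3)
  have hpq : p ^ 2 ≤ 2 * q := l1.trans (l2.trans l3)
  have hple : p ≤ 2 := by nlinarith
  have hqle : q ≤ 2 := by nlinarith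
  -- the element `y` of odd order
  set u' := d * u * d⁻¹ with hu'
  have huu : u * u = 1 := he u huU
  have hu'u' : u' * u' = 1 := by rw [hu', show d * u * d⁻¹ * (d * u * d⁻¹) = d * (u * u) * d⁻¹ by group, huu]; group
  obtain ⟨k, hk⟩ := exists_odd_pow (u * u')
  set y := (u * u') ^ 2 ^ k with hy
  have hyinv : u * y * u⁻¹ = y⁻¹ := by
    have hui : u⁻¹ = u := inv_eq_of_mul_eq_one_right huu
    have hu'i : u'⁻¹ = u' := inv_eq_of_mul_eq_one_right hu'u'
    rw [hy, ← conj_pow, ← inv_pow]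
    congr 1
    rw [mul_inv_rev, hui, hu'i]
    calc u * (u * u') * u = (u * u) * u' * u := by group
      _ = u' * u := by rw [huu, one_mul]
  have hπy : π y = ((db ^ 2) ^ 2 ^ k)⁻¹ := by
    have huinv : (π u)⁻¹ = π u := inv_eq_of_mul_eq_one_right (by rw [← map_mul, huu, map_one])
    rw [hy, map_pow, ← inv_pow]
    congr 1
    rw [hu', map_mul, map_mul, map_mul, map_inv, hd]
    calc π u * (db * π u * db⁻¹) = π u * db * (π u)⁻¹ * db⁻¹ := by rw [huinv]; group
      _ = (db ^ 2)⁻¹ := by rw [hinv]; group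
  obtain ⟨m, hm⟩ := exists_pow_eq_self_of_coprime (x := db) (n := 2 * 2 ^ k)
    (((Nat.coprime_two_left.mpr hdodd)).mul (((Nat.coprime_two_left.mpr hdodd)).pow_left k))
  have hmy : π (y⁻¹ ^ m) = db := by rw [map_pow, map_inv, hπy, inv_inv, ← pow_mul db 2, hm]
  -- conjugates of `U₁` commute
  have hone : ∀ {e : G}, (e = d ∨ e = d⁻¹) → cd U₁ (cj e U₁) = 1 →
      cj e U₁ ≤ Subgroup.centralizer (U : Set G) := by
    intro e he' h1
    obtain ⟨-, h2, h3⟩ := key he'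
    rw [h1] at h3
    have h4 : cd (cj e U₁) U = 1 := by
      have h5 := cd_pos (cj e U₁) U
      nlinarith
    exact cd_eq_one_iff.mp h4
  by_cases hp1 : p = 1
  · have hq1 : q = 1 := cd_eq_one_comm.mp hp1
    have c1 := hone (e := d) (Or.inl rfl) (by rw [← hBdef, ← hp]; exact hp1)
    have c2 := hone (e := d⁻¹) (Or.inr rfl) (by rw [← hB'def, hq']; exact hq1)
    set Y₀ := (U ⊓ Q) ⊔ cj d (U ⊓ Q) with hY₀
    have hY₀Q : Y₀ ≤ Q := sup_le inf_le_right
      ((Cfsg.Agent.S4022.cj_mono d inf_le_right).trans (Cfsg.Agent.S4022.cj_normal d Q).le)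
    have hu_fix : u ∈ Subgroup.centralizer (Y₀ : Set G) := by
      rw [hY₀, centralizer_sup]
      refine ⟨centralizer_mono inf_le_left (hUc huU), centralizer_mono
        (Cfsg.Agent.S4022.cj_mono d (show U ⊓ Q ≤ U₁ from fun z hz => hXU₁ hz.1 hz.2)) ?_⟩
      exact Subgroup.le_centralizer_iff.mp c1 huU
    have hu'_fix : u' ∈ Subgroup.centralizer (Y₀ : Set G) := by
      rw [hY₀, centralizer_sup]
      refine ⟨mem_centralizer_iff_conj.mpr fun v hv => ?_, mem_centralizer_iff_conj.mpr ?_⟩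
      · have h1 := mem_centralizer_iff_conj.mp (Subgroup.le_centralizer_iff.mp c2 huU)
          _ ⟨v, hXU₁ hv.1 hv.2, rfl⟩
        change u * (d⁻¹ * v * d⁻¹⁻¹) * u⁻¹ = d⁻¹ * v * d⁻¹⁻¹ at h1
        calc u' * v * u'⁻¹ = d * (u * (d⁻¹ * v * d⁻¹⁻¹) * u⁻¹) * d⁻¹ := by rw [hu']; group
          _ = v := by rw [h1]; group
      · rintro _ ⟨v, hv, rfl⟩
        show u' * (d * v * d⁻¹) * u'⁻¹ = d * v * d⁻¹
        calc u' * (d * v * d⁻¹) * u'⁻¹ = d * (u * v * u⁻¹) * d⁻¹ := by rw [hu']; group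
          _ = d * v * d⁻¹ := by rw [mem_centralizer_iff_conj.mp (hUc huU) v hv.1]
    -- both stabilize `1 ≤ Y₀ ≤ Q`
    let T : Submonoid G :=
      { carrier := {g | g ∈ Subgroup.centralizer (Y₀ : Set G) ∧ ∀ w ∈ Q, w⁻¹ * (g * w * g⁻¹) ∈ Y₀}
        one_mem' := ⟨one_mem _, fun w _ => by simp [one_mem]⟩
        mul_mem' := fun {g h} hg hh => ⟨mul_mem hg.1 hh.1, fun w hw => by
          have e1 : g * h * w * (g * h)⁻¹ = g * w * g⁻¹ * (g * (w⁻¹ * (h * w * h⁻¹)) * g⁻¹) := by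
            group
          rw [e1, mem_centralizer_iff_conj.mp hg.1 _ (hh.2 w hw), ← mul_assoc]
          exact mul_mem (hg.2 w hw) (hh.2 w hw)⟩ }
    have hstU : ∀ w ∈ Q, w⁻¹ * (u * w * u⁻¹) ∈ U ⊓ Q := fun w hw =>
      Subgroup.mem_inf.mpr ⟨by
        rw [show w⁻¹ * (u * w * u⁻¹) = (w⁻¹ * u * w) * u⁻¹ by group]
        exact mul_mem ((Subgroup.mem_normalizer_iff''.mp (hSU (hQS hw)) u).mp huU) (inv_mem huU),
        mul_mem (inv_mem hw) ((inferInstance : Q.Normal).conj_mem w hw u)⟩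
    have huT : u ∈ T := ⟨hu_fix, fun w hw => Subgroup.mem_sup_left (hstU w hw)⟩
    have hu'T : u' ∈ T := ⟨hu'_fix, fun w hw => Subgroup.mem_sup_right
      ⟨_, hstU (d⁻¹ * w * d) (by simpa using (inferInstance : Q.Normal).conj_mem w hw d⁻¹),
        by show d * _ * d⁻¹ = _; rw [hu']; group⟩⟩
    have hyT : y ∈ T := pow_mem (mul_mem huT hu'T) _
    have hyQ : y ∈ Q := hchar (mem_centralizer_iff_conj.mpr fun w hw =>
      fix_of_stabilizes hQp hk (hY₀Q (hyT.2 w hw))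
        (mem_centralizer_iff_conj.mp hyT.1 _ (hyT.2 w hw)) (by rw [pow_orderOf_eq_one]; group))
    apply hd1
    rw [← hmy, map_pow, map_inv, hπ1.mpr hyQ, inv_one, one_pow]
  -- `p = q = 2`
  apply hp1
  have hp2 : p = 2 := by omega
  have hq2 : q = 2 := by
    have : q ≠ 1 := fun h => hp1 (cd_eq_one_comm.mp h)
    omega
  have hker : ∀ {e : G}, (e = d ∨ e = d⁻¹) → cd (cj e U₁) U₁ = 2 → cd U₁ (cj e U₁) = 2 →
      Subgroup.centralizer (U₁ : Set G) ⊓ cj e U₁ ≤ Subgroup.centralizer (U : Set G) := by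
    intro e he' h1 h2
    obtain ⟨h3, h4, h5⟩ := key he'
    rw [h1] at h3
    rw [h2] at h5
    refine inf_le_of_relIndex_eq (centralizer_mono hU₁U) ?_
    show cd (cj e U₁) U = cd (cj e U₁) U₁
    rw [h1]
    have h6 : 2 ≤ cd (cj e U₁) U := h1 ▸ cd_mono_left hU₁U
    nlinarith
  have kB : Subgroup.centralizer (U₁ : Set G) ⊓ B ≤ Subgroup.centralizer (U : Set G) :=
    hker (Or.inl rfl) (hq ▸ hq2) (hp ▸ hp2)
  have kB' : Subgroup.centralizer (U₁ : Set G) ⊓ B' ≤ Subgroup.centralizer (U : Set G) :=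
    hker (Or.inr rfl) (by rw [← hB'def, hp', hp2]) (by rw [← hB'def, hq', hq2])
  set N := U₁ ⊔ B with hN
  set D₁ := Subgroup.centralizer (B : Set G) ⊓ U₁ with hD₁
  set D₂ := Subgroup.centralizer (U₁ : Set G) ⊓ B with hD₂
  set D := D₁ ⊔ D₂ with hD
  have hU₁c : U₁ ≤ Subgroup.centralizer (U₁ : Set G) :=
    hU₁U.trans (hUc.trans (centralizer_mono hU₁U))
  have hBc : B ≤ Subgroup.centralizer (B : Set G) := by
    rw [hBdef]
    rintro _ ⟨a, ha, rfl⟩
    refine Subgroup.mem_centralizer_iff.mpr ?_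
    rintro _ ⟨b, hb, rfl⟩
    rw [← map_mul, ← map_mul, hcomU hb.2 ha.2]
  have hDN : D ≤ N := sup_le (inf_le_right.trans le_sup_left) (inf_le_right.trans le_sup_right)
  have hNcD : N ≤ Subgroup.centralizer (D : Set G) := by
    rw [hD, centralizer_sup]
    refine sup_le (le_inf ?_ ?_) (le_inf ?_ ?_)
    · exact hU₁c.trans (centralizer_mono inf_le_right)
    · exact Subgroup.le_centralizer_iff.mp inf_le_left
    · exact Subgroup.le_centralizer_iff.mp inf_le_left
    · exact hBc.trans (centralizer_mono inf_le_right)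
  have hBS : B ≤ (S : Subgroup G) := hconjS (Or.inl rfl)
  have hcommB : ∀ v ∈ U, ∀ b ∈ B, (π v * π b = π b * π v) → v * b * v⁻¹ * b⁻¹ ∈ U ⊓ Q := by
    intro v hv b hb hc
    refine ⟨?_, hπ1.mp (by rw [map_mul, map_mul, map_mul, map_inv, map_inv, hc]; group)⟩
    rw [show v * b * v⁻¹ * b⁻¹ = v * (b * v⁻¹ * b⁻¹) by group]
    exact mul_mem hv ((Subgroup.mem_normalizer_iff.mp (hSU (hBS hb)) _).mp (inv_mem hv))
  have hπB : ∀ b ∈ B, ∃ w ∈ U₁, π b = π w ∧ b = d * w * d⁻¹ := by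
    rintro _ ⟨w, hw, rfl⟩
    exact ⟨w, hw, hcong hw (Or.inl rfl), rfl⟩
  have hcBu : ∀ v ∈ U, ∀ b ∈ B, π v * π b = π b * π v := fun v hv b hb => by
    obtain ⟨w, hw, h, -⟩ := hπB b hb
    rw [h, ← map_mul, ← map_mul, hcomU hv hw.2]
  have huN : u ∈ Subgroup.normalizer (N : Set G) := mem_normalizer_of_cj
    (Subgroup.eq_of_le_of_card_ge (by
      rw [hN, Cfsg.Agent.S4022.cj_sup]
      refine sup_le ?_ ?_
      · rintro _ ⟨v, hv, rfl⟩
        refine Subgroup.mem_sup_left ?_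
        show u * v * u⁻¹ ∈ U₁
        rw [hcomU huU hv.2, mul_inv_cancel_right]; exact hv
      · rintro _ ⟨b, hb, rfl⟩
        show u * b * u⁻¹ ∈ _
        rw [show u * b * u⁻¹ = u * b * u⁻¹ * b⁻¹ * b by group]
        have h := hcommB u huU b hb (hcBu u huU b hb)
        exact mul_mem (Subgroup.mem_sup_left (hXU₁ h.1 h.2)) (Subgroup.mem_sup_right hb))
      (card_cj _ _).ge)
  have hu'N : u' ∈ Subgroup.normalizer (N : Set G) := mem_normalizer_of_cj
    (Subgroup.eq_of_le_of_card_ge (by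
      rw [hN, Cfsg.Agent.S4022.cj_sup]
      refine sup_le ?_ ?_
      · rintro _ ⟨v, hv, rfl⟩
        show u' * v * u'⁻¹ ∈ _
        rw [show u' * v * u'⁻¹ = u' * v * u'⁻¹ * v⁻¹ * v by group]
        refine mul_mem (Subgroup.mem_sup_right ?_) (Subgroup.mem_sup_left hv)
        have hv' : d⁻¹ * v * d⁻¹⁻¹ ∈ (S : Subgroup G) := hconjS (Or.inr rfl) ⟨v, hv, rfl⟩
        have hz : u * (d⁻¹ * v * d⁻¹⁻¹) * u⁻¹ * (d⁻¹ * v * d⁻¹⁻¹)⁻¹ ∈ U₁ := by
          refine hXU₁ ?_ (hπ1.mp ?_)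
          · rw [show ∀ a b : G, a * b * a⁻¹ * b⁻¹ = a * (b * a⁻¹ * b⁻¹) from fun a b => by group]
            exact mul_mem huU ((Subgroup.mem_normalizer_iff.mp (hSU hv') _).mp (inv_mem huU))
          · have := hcong hv (Or.inr rfl)
            rw [map_mul, map_mul, map_mul, map_inv, map_inv, this, ← map_mul, hcomU huU hv.2,
              map_mul]
            group
        exact ⟨_, hz, by show d * _ * d⁻¹ = _; rw [hu']; group⟩
      · rintro _ ⟨b, hb, rfl⟩
        refine Subgroup.mem_sup_right ?_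
        show u' * b * u'⁻¹ ∈ B
        obtain ⟨w, hw, -, rfl⟩ := hπB b hb
        rw [show u' * (d * w * d⁻¹) * u'⁻¹ = d * (u * w * u⁻¹) * d⁻¹ by rw [hu']; group,
          hcomU huU hw.2, mul_inv_cancel_right]
        exact hb)
      (card_cj _ _).ge)
  have huD : u ∈ Subgroup.centralizer (D : Set G) := by
    rw [hD, centralizer_sup]
    exact ⟨centralizer_mono inf_le_right (centralizer_mono hU₁U (hUc huU)),
      Subgroup.le_centralizer_iff.mp kB huU⟩
  have hu'D : u' ∈ Subgroup.centralizer (D : Set G) := by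
    rw [hD, centralizer_sup]
    refine ⟨mem_centralizer_iff_conj.mpr fun v hv => ?_, mem_centralizer_iff_conj.mpr fun b hb => ?_⟩
    · have hv' : d⁻¹ * v * d⁻¹⁻¹ ∈ Subgroup.centralizer (U₁ : Set G) ⊓ B' := by
        refine ⟨mem_centralizer_iff_conj.mpr fun w hw => ?_, ⟨v, hv.2, rfl⟩⟩
        have h1 := mem_centralizer_iff_conj.mp hv.1 _ ⟨w, hw, rfl⟩
        change v * (d * w * d⁻¹) * v⁻¹ = d * w * d⁻¹ at h1
        calc d⁻¹ * v * d⁻¹⁻¹ * w * (d⁻¹ * v * d⁻¹⁻¹)⁻¹ = d⁻¹ * (v * (d * w * d⁻¹) * v⁻¹) * d := by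
              group
          _ = w := by rw [h1]; group
      have h2 := mem_centralizer_iff_conj.mp (Subgroup.le_centralizer_iff.mp kB' huU) _ hv'
      calc u' * v * u'⁻¹ = d * (u * (d⁻¹ * v * d⁻¹⁻¹) * u⁻¹) * d⁻¹ := by rw [hu']; group
        _ = v := by rw [h2]; group
    · obtain ⟨w, hw, -, rfl⟩ := hπB b hb.2
      rw [show u' * (d * w * d⁻¹) * u'⁻¹ = d * (u * w * u⁻¹) * d⁻¹ by rw [hu']; group,
        hcomU huU hw.2, mul_inv_cancel_right]
  have hBnorm : B ≤ Subgroup.normalizer ((D ⊔ U₁ : Subgroup G) : Set G) := fun b hb =>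
    mem_normalizer_of_cj (Subgroup.eq_of_le_of_card_ge (by
      rw [Cfsg.Agent.S4022.cj_sup]
      refine sup_le (le_trans (cj_of_mem_normalizer (Subgroup.centralizer_le_normalizer _
        (hNcD (Subgroup.mem_sup_right hb)))).le le_sup_left) ?_
      rintro _ ⟨v, hv, rfl⟩
      show b * v * b⁻¹ ∈ _
      have hz := hcommB v hv.2 b hb (hcBu v hv.2 b hb)
      rw [show b * v * b⁻¹ = (v * b * v⁻¹ * b⁻¹)⁻¹ * v by group]
      exact mul_mem (inv_mem (Subgroup.mem_sup_right (hXU₁ hz.1 hz.2))) (Subgroup.mem_sup_right hv))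
      (card_cj _ _).ge)
  have hidxD : D.relIndex N ≤ 4 := by
    have e : N = (D ⊔ U₁) ⊔ B := le_antisymm
      (sup_le (le_sup_right.trans le_sup_left) le_sup_right)
      (sup_le (sup_le hDN le_sup_left) le_sup_right)
    rw [← Subgroup.relIndex_mul_relIndex D (D ⊔ U₁) N le_sup_left (sup_le hDN le_sup_left)]
    have h1 : D.relIndex (D ⊔ U₁) ≤ 2 := by
      rw [Coprime.relIndex_sup_of_le_normalizer
        ((le_trans le_sup_left hNcD : U₁ ≤ _).trans (Subgroup.centralizer_le_normalizer _))]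
      calc D.relIndex U₁ ≤ D₁.relIndex U₁ :=
            Subgroup.relIndex_le_of_le_left le_sup_left Subgroup.index_ne_zero_of_finite
        _ = p := by rw [hD₁, Subgroup.inf_relIndex_right, hp]
        _ ≤ 2 := hple
    have h2 : (D ⊔ U₁).relIndex N ≤ 2 := by
      rw [e, Coprime.relIndex_sup_of_le_normalizer hBnorm]
      calc (D ⊔ U₁).relIndex B ≤ D₂.relIndex B :=
            Subgroup.relIndex_le_of_le_left (le_sup_right.trans le_sup_left)
              Subgroup.index_ne_zero_of_finite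
        _ = q := by rw [hD₂, Subgroup.inf_relIndex_right, hq]
        _ ≤ 2 := hqle
    exact Nat.mul_le_mul h1 h2
  have hNp : IsPGroup 2 N := S.2.to_le (sup_le (hU₁U.trans hUS) hBS)
  have hyN : y ∈ Subgroup.centralizer (N : Set G) :=
    pair hS4 hDN hNp (hNcD.trans (Subgroup.centralizer_le_normalizer _)) hidxD huN
      (pow_mem (mul_mem huN hu'N) _) huD (pow_mem (mul_mem huD hu'D) _)
      (fun v _ => by rw [hyinv]; group) hk (by rw [pow_orderOf_eq_one]; exact one_mem _)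
  set g := y⁻¹ ^ m with hg
  have hgU : cj g U₁ = U₁ := cj_of_mem_normalizer (Subgroup.centralizer_le_normalizer _
    (centralizer_mono le_sup_left (pow_mem (inv_mem hyN) m)))
  have hgd : g⁻¹ * d ∈ Q := hπ1.mp (by rw [map_mul, map_inv, hg, hmy, hd, inv_mul_cancel])
  have hqU : cj (g⁻¹ * d) U₁ = U₁ := Subgroup.eq_of_le_of_card_ge (by
    rintro _ ⟨v, hv, rfl⟩
    show g⁻¹ * d * v * (g⁻¹ * d)⁻¹ ∈ U₁
    refine ⟨?_, (Subgroup.mem_normalizer_iff.mp (hSU (hQS hgd)) v).mp hv.2⟩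
    show π _ ∈ Ub
    rw [map_mul, map_mul, map_inv π (g⁻¹ * d), hπ1.mpr hgd, one_mul, inv_one, mul_one]
    exact hv.1) (card_cj _ _).ge
  have hBU : B = U₁ := by
    rw [hBdef, show d = g * (g⁻¹ * d) by group, cj_mul, hqU, hgU]
  rw [hp, hBU]
  exact cd_eq_one_iff.mpr hU₁c

/-- The conjugates of such a subgroup commute. -/
theorem conj_le_centralizer [Group.IsSolvable G] (hS4 : ¬ Cfsg.Involves (Equiv.Perm (Fin 4)) G)
    (hchar : Subgroup.centralizer (Cfsg.pCore 2 G : Set G) ≤ Cfsg.pCore 2 G) (S : Sylow 2 G)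
    {U : Subgroup G} (hUS : U ≤ (S : Subgroup G))
    (hSU : (S : Subgroup G) ≤ Subgroup.normalizer (U : Set G))
    (he : ∀ u ∈ U, u * u = 1) (hUc : U ≤ Subgroup.centralizer (U : Set G))
    (hSq : ∀ B ≤ (S : Subgroup G), EImg B U → Sq B U) (g : G) :
    cj g U ≤ Subgroup.centralizer (U : Set G) := by
  haveI : Fact (Nat.Prime 2) := ⟨Nat.prime_two⟩
  have hQ := le_pCore_of_sq hS4 hchar S hUS hSU he hUc hSq
  haveI := Fitting.pCore_normal (G := G) 2
  have hS : ∀ h : G, cj h U ≤ (S : Subgroup G) := fun h x hx =>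
    Fitting.mem_pCore_iff_forall_sylow.mp
      (((Cfsg.Agent.S4022.cj_mono h hQ).trans (Cfsg.Agent.S4022.cj_normal h _).le) hx) S
  have h : ∀ h : G, cd (cj h U) U ^ 2 ≤ cd U (cj h U) := fun h =>
    hSq _ (hS h) ⟨S.2.to_le (hS h), (hS h).trans hSU, by
      rintro _ ⟨v, hv, rfl⟩
      rw [← map_mul, he v hv, map_one]; exact one_mem _⟩
  have h1 := h g
  have h2 := h g⁻¹
  rw [← cd_cj g (cj g⁻¹ U) U, ← cd_cj g U (cj g⁻¹ U), ← cj_mul, mul_inv_cancel,
    Cfsg.Agent.S4270.cj_one] at h2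
  have h3 := cd_pos U (cj g U)
  have h4 := cd_pos (cj g U) U
  have h5 : cd (cj g U) U = 1 := by nlinarith
  exact cd_eq_one_iff.mp h5

end CfsgLib.PushUp
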